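import Cfsg.Agent.HexTwoGlob.Fields
import Cfsg.Agent.Lib.KleinGen

/-!
# Odd order groups acting on `Da / Z` and normalised by `T₁` (`q = 2`)
-/

set_option autoImplicit false

namespace Cfsg.Agent.HexTwoGlob.OddTwo

open Cfsg.Agent.HexRec Cfsg.Agent.HexEss Cfsg.Agent.HexEss.Abel Cfsg.Agent.HexGlob.OneSpec
open Cfsg.Agent.HexTwoGlob.Fields

universe v

variable {F K : Type v} [Field F] [Field K] [Algebra F K] {C : Cubic F K}

/-- `A(t)` as a permutation -/
def At (C : Cubic F K) (t : K) : Equiv.Perm (MM F K) := (AA C t).toEquiv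

theorem At_apply (t : K) (w : MM F K) : At C t w = AA C t w := rfl

theorem At_mul (t t' : K) : At C t * At C t' = At C (t + t') := by
  apply Equiv.ext
  intro w
  exact congrArg (fun f : MM F K ≃ₗ[F] MM F K => f w) (AA_mul C t t')

theorem At_sq (t : K) : At C t * At C t = 1 := by
  rw [At_mul, C.add_selfK]
  apply Equiv.ext
  intro w
  exact congrArg (fun f : MM F K ≃ₗ[F] MM F K => f w) (AA_zero C)

theorem At_comm (t t' : K) : At C t * At C t' = At C t' * At C t := by
  rw [At_mul, At_mul, add_comm]

theorem addM (C : Cubic F K) (w : MM F K) : w + w = 0 := by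
  obtain ⟨u, s, k, v⟩ := w
  exact Prod.ext (C.char2 u) (Prod.ext (C.add_selfK s) (Prod.ext (C.add_selfK k) (C.char2 v)))

theorem eqM (C : Cubic F K) {w w' : MM F K} (h : w + w' = 0) : w = w' := by
  rw [← add_zero w, ← addM C w', ← add_assoc, h, zero_add]

variable (hD : Dat2 C)

/-- `β(m, A(t) m) = N(t) u(m)²` -/
theorem form_AA (C : Cubic F K) (t : K) (m : MM F K) : formA C m (AA C t m) = C.N t * m.1 ^ 2 := by
  obtain ⟨u, s, k, v⟩ := m
  rw [AA_apply, formA_apply]
  simp only [C.T_add_left, C.T_add_right, C.T_smul_left, C.T_smul_right, T_cr_self_right]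
  rw [C.T_comm k s, C.T_comm s (C.sh t), C.T_comm k t]
  have h2 := C.two_F
  linear_combination (u * v + u * C.T t k + u * C.T (C.sh t) s + C.T s k) * h2

theorem eq_of_form (g : Equiv.Perm (MM F K)) {x y : MM F K} (h : ∀ w, formA C x (g w) = formA C y (g w)) : x = y := by
  have h1 : ∀ w, formA C (x - y) w = 0 := by
    intro w
    obtain ⟨w', rfl⟩ := g.surjective w
    rw [map_sub, LinearMap.sub_apply, h, sub_self]
  exact sub_eq_zero.1 (formA_nondegenerate.1 _ h1)

include hD

section single

variable {g : Equiv.Perm (MM F K)} (hg : ∀ v w, formA C (g v) (g w) = formA C v w)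
include hg

omit hD in
/-- form preserving permutations are additive -/
theorem map_add' (v w : MM F K) : g (v + w) = g v + g w := by
  apply eq_of_form (C := C) g
  intro x
  rw [hg, map_add, map_add, LinearMap.add_apply, LinearMap.add_apply, hg, hg]

omit hD in
theorem map_zero' : g 0 = 0 := by
  apply eq_of_form (C := C) g
  intro x
  rw [hg, map_zero, LinearMap.zero_apply, LinearMap.zero_apply]

theorem fst_eq {t : K} (ht : t ≠ 0) (hc : ∀ w, g (AA C t w) = AA C t (g w)) (w : MM F K) : (g w).1 = w.1 := by
  have h1 := form_AA C t (g w)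
  rw [← hc, hg, form_AA, N_eq hD ht, one_mul, one_mul] at h1
  rcases hD.eq_zero_or_one w.1 with h2 | h2 <;> rcases hD.eq_zero_or_one (g w).1 with h3 | h3 <;>
    rw [h2, h3] at h1 ⊢ <;> simp at h1

theorem map_v0 {t : K} (ht : t ≠ 0) (hc : ∀ w, g (AA C t w) = AA C t (g w)) : g (0, 0, 0, 1) = (0, 0, 0, 1) := by
  have key : ∀ w : MM F K, formA C (0, 0, 0, 1) w = w.1 := by
    intro w
    rw [formA_apply]
    simp [C.T_zero_left]
  apply eq_of_form (C := C) g
  intro w
  rw [hg, key, key, fst_eq hD hg ht hc]

end single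

/-- an automorphism of odd order commuting with `A(t)` and `A(s)` is trivial -/
theorem eq_one {g : Equiv.Perm (MM F K)} (hg : ∀ v w, formA C (g v) (g w) = formA C v w) {n : ℕ} (hn : Odd n)
    (hgn : g ^ n = 1) {t s : K} (ht : t ≠ 0) (hs : s ≠ 0) (hts : t ≠ s)
    (hct : ∀ w, g (AA C t w) = AA C t (g w)) (hcs : ∀ w, g (AA C s w) = AA C s (g w)) : g = 1 := by
  have gadd := map_add' hg
  have gsub : ∀ v w, g (v - w) = g v - g w := by
    intro v w
    have h := gadd (v - w) w
    rw [sub_add_cancel] at h
    rw [h, add_sub_cancel_right]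
  -- odd order: `g w = w + d` with `g d = d` forces `d = 0`
  have hodd : ∀ w d : MM F K, g w = w + d → g d = d → d = 0 := by
    intro w d h1 h2
    have h3 : ∀ m : ℕ, (g ^ m) w = w + m • d := by
      intro m
      induction m with
      | zero => simp
      | succ m ih =>
        have hm : ∀ j : ℕ, g (j • d) = j • d := by
          intro j
          induction j with
          | zero => rw [zero_nsmul]; exact map_zero' hg
          | succ j ij => rw [succ_nsmul, gadd, ij, h2]
        rw [pow_succ', Equiv.Perm.mul_apply, ih, gadd, hm, h1, succ_nsmul]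
        abel
    have h4 := h3 n
    rw [hgn, Equiv.Perm.one_apply] at h4
    have h5 : n • d = 0 := by
      have := h4.symm
      rwa [add_eq_left] at this
    obtain ⟨k, rfl⟩ := hn
    have h6 : (2 * k + 1) • d = d := by
      rw [succ_nsmul, mul_nsmul', two_nsmul, addM C]
      simp
    rw [← h6, h5]
  have hv0 := map_v0 hD hg ht hct
  -- fixed points of `A(t)`, `A(s)`
  have hfix : ∀ w, AA C t w = w → AA C s w = w → w.1 = 0 ∧ w.2.1 = 0 ∧ (w.2.2.1 = 0 ∨ w.2.2.1 = C.cr t s) := by
    rintro ⟨u, a, k, v⟩ h1 h2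
    rw [AA_apply] at h1 h2
    have h3 : u • t = 0 := by
      have := congrArg (fun x : MM F K => x.2.1) h1
      simpa using this
    have hu : u = 0 := (smul_eq_zero.1 h3).resolve_right ht
    subst hu
    have h4 : C.cr t a = 0 := by
      have := congrArg (fun x : MM F K => x.2.2.1) h1
      simpa using this
    have h5 : C.cr s a = 0 := by
      have := congrArg (fun x : MM F K => x.2.2.1) h2
      simpa using this
    have ha : a = 0 := by
      by_contra ha
      obtain ⟨f, hf⟩ := exists_smul_of_cr_eq_zero hD.reg ht h4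
      obtain ⟨f', hf'⟩ := exists_smul_of_cr_eq_zero hD.reg hs h5
      rcases smul_cases hD f t with h6 | h6
      · exact ha (hf.trans h6)
      rcases smul_cases hD f' s with h7 | h7
      · exact ha (hf'.trans h7)
      exact hts ((hf.trans h6).symm.trans (hf'.trans h7))
    subst ha
    refine ⟨rfl, rfl, ?_⟩
    have h6 : C.T t k = 0 := by
      have := congrArg (fun x : MM F K => x.2.2.2) h1
      simpa [C.T_zero_right] using this
    have h7 : C.T s k = 0 := by
      have := congrArg (fun x : MM F K => x.2.2.2) h2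
      simpa [C.T_zero_right] using this
    exact perp_eq hD ht hs hts h6 h7
  -- `g` is trivial on the common fixed points
  have h1 : ∀ w, AA C t w = w → AA C s w = w → g w = w := by
    intro w hw1 hw2
    have hg1 : AA C t (g w) = g w := by rw [← hct, hw1]
    have hg2 : AA C s (g w) = g w := by rw [← hcs, hw2]
    have f1 := hfix w hw1 hw2
    have f2 := hfix (g w) hg1 hg2
    -- `g w = w + v • v0` or the third coordinates differ
    have hV : ∀ x : MM F K, x.1 = 0 → x.2.1 = 0 → x.2.2.1 = 0 → g x = x := by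
      rintro ⟨u, a, k, v⟩ hu ha hk
      simp only at hu ha hk
      subst hu ha hk
      rcases hD.eq_zero_or_one v with rfl | rfl
      · exact map_zero' hg
      · exact hv0
    by_cases hk : (g w).2.2.1 = w.2.2.1
    · have h2 := hodd w (g w - w) (by abel) (hV _ (by rw [Prod.fst_sub, f1.1, f2.1, sub_self])
        (by rw [Prod.snd_sub, Prod.fst_sub, f1.2.1, f2.2.1, sub_self])
        (by rw [Prod.snd_sub, Prod.snd_sub, Prod.fst_sub, hk, sub_self]))
      exact sub_eq_zero.1 h2
    · -- one of the third coordinates is `0`, so `g` fixes that vector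
      rcases f1.2.2 with h3 | h3
      · exact hV w f1.1 f1.2.1 h3
      · rcases f2.2.2 with h4 | h4
        · have h5 := hV (g w) f2.1 f2.2.1 h4
          exact g.injective h5
        · exact absurd (h4.trans h3.symm) hk
  -- climbing
  have climb : ∀ M : Set (MM F K), (∀ w ∈ M, g w = w) → ∀ w, (AA C t w + w) ∈ M → (AA C s w + w) ∈ M → g w = w := by
    intro M hM w hw1 hw2
    have h2 : ∀ r : K, (∀ w, g (AA C r w) = AA C r (g w)) → (AA C r w + w) ∈ M → AA C r (g w - w) = g w - w := by
      intro r hr hwr
      have h3 := hM _ hwr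
      rw [gadd, hr] at h3
      rw [map_sub]
      have h4 : AA C r (g w) + g w - (AA C r w + w) = 0 := by rw [h3, sub_self]
      have h5 : AA C r (g w) - AA C r w + (g w - w) = 0 := by rw [← h4]; abel
      exact eqM C h5
    have h6 := h1 _ (h2 t hct hw1) (h2 s hcs hw2)
    exact sub_eq_zero.1 (hodd w (g w - w) (by abel) h6)
  have hM1 : ∀ w, (AA C t w = w ∧ AA C s w = w) → g w = w := fun w hw => h1 w hw.1 hw.2
  -- everything is in the third layer
  set M1 : Set (MM F K) := {w | AA C t w = w ∧ AA C s w = w} with hM1def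
  set M2 : Set (MM F K) := {w | AA C t w + w ∈ M1 ∧ AA C s w + w ∈ M1} with hM2def
  have hM2 : ∀ w ∈ M2, g w = w := fun w hw => climb M1 hM1 w hw.1 hw.2
  have htt : ∀ w, AA C t (AA C t w) = w := fun w => congrArg (fun f : MM F K ≃ₗ[F] MM F K => f w) (AA_mul_self C t)
  have hss : ∀ w, AA C s (AA C s w) = w := fun w => congrArg (fun f : MM F K ≃ₗ[F] MM F K => f w) (AA_mul_self C s)
  have hst : ∀ w, AA C s (AA C t w) = AA C t (AA C s w) := fun w => by
    have h2 : AA C s * AA C t = AA C t * AA C s := by rw [AA_mul, AA_mul, add_comm]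
    exact congrArg (fun f : MM F K ≃ₗ[F] MM F K => f w) h2
  have hall : ∀ w, AA C t w + w ∈ M2 := by
    intro w
    have e := addM C
    refine ⟨⟨?_, ?_⟩, ⟨?_, ?_⟩⟩
    · apply eqM C
      simp only [map_add, htt]
      generalize AA C t w = x
      linear_combination (exp := 1) 2 * e x + 2 * e w
    · apply eqM C
      simp only [map_add, htt, hst]
      generalize AA C t (AA C s w) = x
      generalize AA C t w = y
      generalize AA C s w = z
      linear_combination (exp := 1) e x + e w + e y + e z
    · apply eqM C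
      simp only [map_add, htt, hst]
      generalize AA C t (AA C s w) = x
      generalize AA C t w = y
      generalize AA C s w = z
      linear_combination (exp := 1) e x + e w + e y + e z
    · apply eqM C
      simp only [map_add, hss, hst]
      generalize AA C t (AA C s w) = x
      generalize AA C t w = y
      generalize AA C s w = z
      linear_combination (exp := 1) e x + e w + e y + e z
  have hall' : ∀ w, AA C s w + w ∈ M2 := by
    intro w
    have e := addM C
    refine ⟨⟨?_, ?_⟩, ⟨?_, ?_⟩⟩
    · apply eqM C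
      simp only [map_add, htt, hst]
      generalize AA C t (AA C s w) = x
      generalize AA C t w = y
      generalize AA C s w = z
      linear_combination (exp := 1) e x + e w + e y + e z
    · apply eqM C
      simp only [map_add, hss, hst]
      generalize AA C t (AA C s w) = x
      generalize AA C t w = y
      generalize AA C s w = z
      linear_combination (exp := 1) e x + e w + e y + e z
    · apply eqM C
      simp only [map_add, hss, hst]
      generalize AA C t (AA C s w) = x
      generalize AA C t w = y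
      generalize AA C s w = z
      linear_combination (exp := 1) e x + e w + e y + e z
    · apply eqM C
      simp only [map_add, hss]
      generalize AA C s w = x
      linear_combination (exp := 1) 2 * e x + 2 * e w
  apply Equiv.ext
  intro w
  exact climb M2 hM2 w (hall w) (hall' w)

/-- **PIECE B for `q = 2`**: a group of odd order of automorphisms of `Da / Z` preserving the commutator form
and normalised by `T₁` is trivial. -/
theorem eq_bot (Γ : Subgroup (Equiv.Perm (MM F K))) (hodd : Odd (Nat.card Γ))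
    (hform : ∀ g ∈ Γ, ∀ v w, formA C (g v) (g w) = formA C v w)
    (hnorm : ∀ t : K, ∀ g ∈ Γ, At C t * g * (At C t)⁻¹ ∈ Γ) : Γ = ⊥ := by
  classical
  have hfinK := hD.finite_K
  have hfinF := hD.finite_F
  -- three distinct nonzero elements
  obtain ⟨a, b, ha, hb, hab, -, -, hcr, -⟩ := exists_perp hD (one_ne_zero (α := K))
  have hcard : ∀ g ∈ Γ, g ^ Nat.card Γ = 1 := by
    intro g hg
    have h1 : (⟨g, hg⟩ : Γ) ^ Nat.card Γ = 1 := pow_card_eq_one'
    have h2 := congrArg Subtype.val h1
    rwa [Subgroup.coe_pow] at h2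
  have hcomm : ∀ (r : K) (g : Equiv.Perm (MM F K)), g ∈ Subgroup.centralizer {At C r} → ∀ w, g (AA C r w) = AA C r (g w) := by
    intro r g hg w
    rw [Subgroup.mem_centralizer_singleton_iff] at hg
    exact congrArg (fun f : Equiv.Perm (MM F K) => f w) hg
  -- the centraliser of `A(a)` in `Γ` is trivial
  have key : ∀ r : K, r ≠ 0 → Γ ⊓ Subgroup.centralizer {At C r} ≤ ⊥ := by
    intro r hr
    -- choose `x ≠ y` outside `{0, r}` with `x + y ≠ r`
    obtain ⟨x, y, hx, hy, hxy, hxr, hyr, hxyr⟩ : ∃ x y : K, x ≠ 0 ∧ y ≠ 0 ∧ x ≠ y ∧ x ≠ r ∧ y ≠ r ∧ x + y ≠ r := by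
      obtain ⟨k, hk⟩ := C.exists_T_eq hr 1
      have hk0 : k ≠ 0 := fun h => by rw [h, C.T_zero_right] at hk; exact zero_ne_one hk
      obtain ⟨x, y, hx, hy, hxy, hxk, hyk, -, -⟩ := exists_perp hD hk0
      refine ⟨x, y, hx, hy, hxy, ?_, ?_, ?_⟩
      · rintro rfl; rw [hxk] at hk; exact zero_ne_one hk
      · rintro rfl; rw [hyk] at hk; exact zero_ne_one hk
      · rintro rfl; rw [C.T_add_left, hxk, hyk, add_zero] at hk; exact zero_ne_one hk
    set Δ := Γ ⊓ Subgroup.centralizer {At C r} with hΔ
    have hΔodd : Odd (Nat.card Δ) := by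
      have h1 := Subgroup.card_dvd_of_le (inf_le_left : Δ ≤ Γ)
      exact Odd.of_dvd_nat hodd h1
    have hΔn : ∀ z : K, ∀ g ∈ Δ, At C z * g * (At C z)⁻¹ ∈ Δ := by
      intro z g hg
      refine Subgroup.mem_inf.2 ⟨hnorm z g hg.1, ?_⟩
      have hg2 := Subgroup.mem_centralizer_singleton_iff.1 hg.2
      rw [Subgroup.mem_centralizer_singleton_iff]
      have h1 := At_comm (C := C) z r
      have h2 : (At C z)⁻¹ * At C r = At C r * (At C z)⁻¹ := by
        rw [inv_mul_eq_iff_eq_mul, ← mul_assoc, h1, mul_assoc, mul_inv_cancel, mul_one]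
      calc At C z * g * (At C z)⁻¹ * At C r = At C z * g * ((At C z)⁻¹ * At C r) := by group
        _ = At C z * (g * At C r) * (At C z)⁻¹ := by rw [h2]; group
        _ = (At C z * At C r) * g * (At C z)⁻¹ := by rw [hg2]; group
        _ = At C r * (At C z * g * (At C z)⁻¹) := by rw [h1]; group
    have hone : ∀ z : K, z ≠ 0 → z ≠ r → Δ ⊓ Subgroup.centralizer {At C z} ≤ ⊥ := by
      intro z hz hzr g hg
      rw [Subgroup.mem_bot]
      exact eq_one hD (hform g hg.1.1) hodd (hcard g hg.1.1) hr hz (Ne.symm hzr)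
        (hcomm r g hg.1.2) (hcomm z g hg.2)
    refine Lib.KleinGen.le_of_klein Δ ⊥ hΔodd (At C x) (At C y) (At_sq x) (At_sq y) (At_comm x y)
      (hΔn x) (hΔn y) (hone x hx hxr) (hone y hy hyr) ?_
    rw [At_mul]
    exact hone (x + y) (add_ne_zero hD hxy) hxyr
  rw [eq_bot_iff]
  refine Lib.KleinGen.le_of_klein Γ ⊥ hodd (At C a) (At C b) (At_sq a) (At_sq b) (At_comm a b)
    (hnorm a) (hnorm b) (key a ha) (key b hb) ?_
  rw [At_mul]
  exact key (a + b) (add_ne_zero hD hab)

end Cfsg.Agent.HexTwoGlob.OddTwo
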