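import Cfsg.Agent.HexTwoGlob.Fields

/-!
# A configuration in `C_S(u)`, `u = x₃(k₀)`, `q = 2`, which does not exist

`T` plays the role of the Sylow 2-subgroup of a component of `C_G(u)/O(C_G(u))`, `δ` that of an element of its
normaliser which moves `z`.
-/

set_option autoImplicit false

namespace Cfsg.Agent.HexTwoGlob.CoreTwo

open Cfsg.Agent.HexRec Cfsg.Agent.HexEss Cfsg.Agent.HexTwoGlob.Fields

universe u v

variable {F K : Type v} [Field F] [Field K] [Algebra F K] {C : Cubic F K}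
variable {G : Type u} [Group G] {P : Subgroup G}

/-- `C_{Db}(u)` -/
def InP2 (co : Coord C P) (k0 : K) (g : G) : Prop :=
  g ∈ P ∧ (cx co g).a6 = 0 ∧ C.T (cx co g).a1 k0 = 0 ∧ C.T (cx co g).a5 k0 = 0

/-- the configuration -/
structure Conf (co : Coord C P) (k0 : K) (T : Subgroup G) (δ : G → G) : Prop where
  k0_ne : k0 ≠ 0
  T_le : ∀ t ∈ T, InP2 co k0 t
  conj : ∀ p ∈ P, C.T (cx co p).a1 k0 = 0 → C.T (cx co p).a5 k0 = 0 → ∀ t ∈ T, p * t * p⁻¹ ∈ T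
  sq : ∀ t ∈ T, (cx co (t * t) = ⟨0, 0, 0, 0, 0, 0⟩ ∨ cx co (t * t) = ⟨0, 0, k0, 0, 0, 0⟩) →
    (cx co t).a1 = 0 ∧ (cx co t).a5 = 0 ∧ ((cx co t).a3 = 0 ∨ (cx co t).a3 = k0)
  d_mem : ∀ b, InP2 co k0 b → δ b * b⁻¹ ∈ T
  d_mul : ∀ a b, InP2 co k0 a → InP2 co k0 b → δ (a * b) = δ a * δ b
  d_surj : ∀ b, InP2 co k0 b → ∃ a, InP2 co k0 a ∧ δ a = b
  d_V : ∀ v ∈ P, (cx co v).a1 = 0 → (cx co v).a3 = 0 → (cx co v).a5 = 0 → (cx co v).a6 = 0 →
    (cx co (δ v)).a3 = 0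
  d_u : ∀ w ∈ P, cx co w = ⟨0, 0, k0, 0, 0, 0⟩ → δ w = w
  d_z : ∀ w ∈ P, cx co w = ⟨0, 0, 0, 1, 0, 0⟩ → δ w ≠ w ∧ δ w ≠ 1

section basic

variable {co : Coord C P} {k0 : K}

theorem InP2.mul {a b : G} (ha : InP2 co k0 a) (hb : InP2 co k0 b) : InP2 co k0 (a * b) := by
  refine ⟨mul_mem ha.1 hb.1, ?_, ?_, ?_⟩
  · rw [a6_mul ha.1 hb.1, ha.2.1, hb.2.1, add_zero]
  · rw [a1_mul ha.1 hb.1, C.T_add_left, ha.2.2.1, hb.2.2.1, add_zero]
  · rw [a5_mul ha.1 hb.1, ha.2.1, zero_smul, add_zero, C.T_add_left, ha.2.2.2, hb.2.2.2, add_zero]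

theorem InP2.one : InP2 co k0 (1 : G) := by
  refine ⟨one_mem _, ?_, ?_, ?_⟩ <;> rw [cx_one]
  · exact C.T_zero_left _
  · exact C.T_zero_left _

theorem a1_inv {g : G} (hg : g ∈ P) : (cx co g⁻¹).a1 = (cx co g).a1 := by
  have h := a1_mul (co := co) hg (inv_mem hg)
  rw [mul_inv_cancel, cx_one] at h
  exact C.eq_of_add_eq_zeroK (by rw [add_comm]; exact h.symm)

theorem a6_inv {g : G} (hg : g ∈ P) : (cx co g⁻¹).a6 = (cx co g).a6 := by
  have h := a6_mul (co := co) hg (inv_mem hg)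
  rw [mul_inv_cancel, cx_one] at h
  exact C.eq_of_add_eq_zero (by rw [add_comm]; exact h.symm)

theorem a5_inv {g : G} (hg : g ∈ P) (h6 : (cx co g).a6 = 0) : (cx co g⁻¹).a5 = (cx co g).a5 := by
  have h := a5_mul (co := co) hg (inv_mem hg)
  rw [mul_inv_cancel, cx_one, h6, zero_smul, add_zero] at h
  exact C.eq_of_add_eq_zeroK (by rw [add_comm]; exact h.symm)

theorem InP2.inv {a : G} (ha : InP2 co k0 a) : InP2 co k0 a⁻¹ := by
  refine ⟨inv_mem ha.1, ?_, ?_, ?_⟩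
  · rw [a6_inv ha.1, ha.2.1]
  · rw [a1_inv ha.1, ha.2.2.1]
  · rw [a5_inv ha.1 ha.2.1, ha.2.2.2]

theorem InP2.cm {a b : G} (ha : InP2 co k0 a) (hb : InP2 co k0 b) : InP2 co k0 (cm a b) :=
  ((ha.mul hb).mul ha.inv).mul hb.inv

end basic

variable {co : Coord C P} {k0 : K} {T : Subgroup G} {δ : G → G}

section dlem

variable (h : Conf co k0 T δ)
include h

theorem d_one : δ 1 = 1 := by
  have h1 := h.d_mul 1 1 InP2.one InP2.one
  rw [mul_one] at h1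
  exact (mul_eq_left.1 h1.symm)

theorem d_inv {a : G} (ha : InP2 co k0 a) : δ a⁻¹ = (δ a)⁻¹ := by
  have h1 := h.d_mul a a⁻¹ ha ha.inv
  rw [mul_inv_cancel, d_one h] at h1
  exact eq_inv_of_mul_eq_one_right h1.symm

theorem d_cm {a b : G} (ha : InP2 co k0 a) (hb : InP2 co k0 b) : δ (cm a b) = cm (δ a) (δ b) := by
  unfold HexEss.cm
  rw [h.d_mul _ _ ((ha.mul hb).mul ha.inv) hb.inv, h.d_mul _ _ (ha.mul hb) ha.inv, h.d_mul _ _ ha hb,
    d_inv h ha, d_inv h hb]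

theorem d_eq {b : G} : ∃ t, δ b = t * b ∧ (InP2 co k0 b → t ∈ T) :=
  ⟨δ b * b⁻¹, by group, fun hb => h.d_mem b hb⟩

theorem d_in {b : G} (hb : InP2 co k0 b) : InP2 co k0 (δ b) := by
  obtain ⟨t, e, ht⟩ := d_eq h (b := b)
  rw [e]
  exact (h.T_le t (ht hb)).mul hb

end dlem

variable (hD : Dat2 C) (h : Conf co k0 T δ)
include hD h

theorem exists_other {τ : K} (hτ : τ ≠ 0) (hτk : C.T τ k0 = 0) : ∃ s, s ≠ 0 ∧ s ≠ τ ∧ C.T s k0 = 0 := by
  obtain ⟨a, b, ha, hb, hab, hak, hbk, -, -⟩ := exists_perp hD h.k0_ne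
  by_cases h1 : a = τ
  · exact ⟨b, hb, fun h2 => hab (h1.trans h2.symm), hbk⟩
  · exact ⟨a, ha, h1, hak⟩

/-- step B -/
theorem d_F0 {w : G} (hw : w ∈ P) (h1 : (cx co w).a1 = 0) (h5 : (cx co w).a5 = 0) (h6 : (cx co w).a6 = 0) :
    (cx co (δ w)).a1 = 0 ∧ (cx co (δ w)).a5 = 0 := by
  have hwI : InP2 co k0 w := ⟨hw, h6, by rw [h1, C.T_zero_left], by rw [h5, C.T_zero_left]⟩
  have hdI := d_in h hwI
  have key : ∀ x, InP2 co k0 x → C.cr (cx co (δ w)).a1 (cx co x).a5 + C.cr (cx co x).a1 (cx co (δ w)).a5 = 0 := by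
    intro x hx
    obtain ⟨y, hy, rfl⟩ := h.d_surj x hx
    rw [← a3_cm_Db hdI.1 hx.1 hdI.2.1 hx.2.1, ← d_cm h hwI hy]
    apply h.d_V
    · exact cm_mem hw hy.1
    · exact a1_cm hw hy.1
    · rw [a3_cm_Db hw hy.1 h6 hy.2.1, h1, h5, C.cr_zero_left, C.cr_zero_right, add_zero]
    · exact a5_cm_Db hw hy.1 h6 hy.2.1
    · exact a6_cm hw hy.1
  constructor
  · by_contra hne
    obtain ⟨s, hs, hs2, hsk⟩ := exists_other hD h hne hdI.2.2.1
    obtain ⟨x, hx, hxc⟩ := exists_cx (co := co) ⟨0, 0, 0, 0, s, 0⟩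
    have h2 := key x ⟨hx, by rw [hxc], by rw [hxc]; exact C.T_zero_left _, by rw [hxc]; exact hsk⟩
    rw [hxc] at h2
    simp only [C.cr_zero_left, add_zero] at h2
    exact cr_ne_zero hD hne hs (Ne.symm hs2) h2
  · by_contra hne
    obtain ⟨s, hs, hs2, hsk⟩ := exists_other hD h hne hdI.2.2.2
    obtain ⟨x, hx, hxc⟩ := exists_cx (co := co) ⟨s, 0, 0, 0, 0, 0⟩
    have h2 := key x ⟨hx, by rw [hxc], by rw [hxc]; exact hsk, by rw [hxc]; exact C.T_zero_left _⟩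
    rw [hxc] at h2
    simp only [C.cr_zero_right, zero_add] at h2
    exact cr_ne_zero hD hs hne hs2 h2

/-- step C -/
theorem d_a3 {w : G} (hw : w ∈ P) (h1 : (cx co w).a1 = 0) (h5 : (cx co w).a5 = 0) (h6 : (cx co w).a6 = 0) :
    (cx co (δ w)).a3 = (cx co w).a3 ∨ (cx co (δ w)).a3 = k0 + (cx co w).a3 := by
  have hwI : InP2 co k0 w := ⟨hw, h6, by rw [h1, C.T_zero_left], by rw [h5, C.T_zero_left]⟩
  obtain ⟨d1, d5⟩ := d_F0 hD h hw h1 h5 h6
  obtain ⟨t, e, ht⟩ := d_eq h (b := w)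
  have htT := ht hwI
  have htI := h.T_le t htT
  rw [e] at d1 d5
  rw [a1_mul htI.1 hw, h1, add_zero] at d1
  rw [a5_mul htI.1 hw, h5, htI.2.1, zero_smul, add_zero, add_zero] at d5
  have h2 := h.sq t htT (Or.inl (by
    refine Tup.ext ?_ ?_ ?_ ?_ ?_ ?_
    · exact a1_sq htI.1
    · rw [a2_sq_Db htI.1 htI.2.1, d1, C.sh_zero, C.T_zero_left, C.T_zero_left]; simp
    · rw [a3_sq_Db htI.1 htI.2.1, d1, C.cr_zero_left]
    · rw [a4_sq_Db htI.1 htI.2.1, d1, d5, C.T_zero_left, C.T_zero_right]; simp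
    · rw [a5_sq htI.1, htI.2.1, zero_smul]
    · exact a6_sq htI.1))
  rw [e, a3_mul htI.1 hw, h1, htI.2.1, zero_smul, C.cr_zero_left, add_zero, add_zero]
  rcases h2.2.2 with h3 | h3
  · left; rw [h3, zero_add]
  · right; rw [h3]

/-- step E -/
theorem exists_a1 {s : K} (hs : C.T s k0 = 0) : ∃ t ∈ T, (cx co t).a1 = s := by
  obtain ⟨y, hy, hyc⟩ := exists_cx (co := co) ⟨0, 0, 0, 0, s, 0⟩
  have hyI : InP2 co k0 y := ⟨hy, by rw [hyc], by rw [hyc]; exact C.T_zero_left _, by rw [hyc]; exact hs⟩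
  have hdI := d_in h hyI
  obtain ⟨z, hz, hzc⟩ := exists_cx (co := co) ⟨0, 0, 0, 1, 0, 0⟩
  have hzI : InP2 co k0 z := ⟨hz, by rw [hzc], by rw [hzc]; exact C.T_zero_left _, by rw [hzc]; exact C.T_zero_left _⟩
  have hdz := h.d_z z hz hzc
  have hdzI := d_in h hzI
  -- `δ z = (0, 1, 0, *, 0, 0)`
  have hz2 : (cx co (δ z)).a2 = 1 := by
    have f := d_F0 hD h hz (by rw [hzc]) (by rw [hzc]) (by rw [hzc])
    have f3 := h.d_V z hz (by rw [hzc]) (by rw [hzc]) (by rw [hzc]) (by rw [hzc])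
    rcases hD.eq_zero_or_one (cx co (δ z)).a2 with h2 | h2
    · exfalso
      rcases hD.eq_zero_or_one (cx co (δ z)).a4 with h4 | h4
      · exact hdz.2 (eq_one_of_cx (co := co) hdzI.1 f.1 h2 f3 h4 f.2 hdzI.2.1)
      · apply hdz.1
        apply cx_inj (co := co) hdzI.1 hz
        rw [hzc]
        exact Tup.ext f.1 h2 f3 h4 f.2 hdzI.2.1
    · exact h2
  have hmain : (cx co (δ y)).a1 = s := by
    apply T_ext (C := C)
    intro κ
    obtain ⟨w, hw, hwc⟩ := exists_cx (co := co) ⟨0, 0, κ, 0, 0, 0⟩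
    have hwI : InP2 co k0 w := ⟨hw, by rw [hwc], by rw [hwc]; exact C.T_zero_left _, by rw [hwc]; exact C.T_zero_left _⟩
    have hdwI := d_in h hwI
    have e1 := d_cm h hyI hwI
    have f := d_F0 hD h hw (by rw [hwc]) (by rw [hwc]) (by rw [hwc])
    -- the `a2`-coordinate of the right-hand side
    have e2 : (cx co (cm (δ y) (δ w))).a2 = C.T (cx co (δ y)).a1 κ := by
      rw [a2_cm_F0 hdI.1 hdwI.1 f.1 f.2 hdwI.2.1]
      rcases d_a3 hD h hw (by rw [hwc]) (by rw [hwc]) (by rw [hwc]) with h3 | h3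
      · rw [h3, hwc]
      · rw [h3, hwc, C.T_add_right, hdI.2.2.1, zero_add]
    -- the commutator on the left-hand side
    have hcP := cm_mem hy hw
    have c1 : (cx co (cm y w)).a1 = 0 := a1_cm hy hw
    have c2 : (cx co (cm y w)).a2 = 0 := by
      rw [a2_cm_F0 hy hw (by rw [hwc]) (by rw [hwc]) (by rw [hwc]), hyc, C.T_zero_left]
    have c3 : (cx co (cm y w)).a3 = 0 := a3_cm_F0 hy hw (by rw [hwc]) (by rw [hwc]) (by rw [hwc])
    have c4 : (cx co (cm y w)).a4 = C.T s κ := by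
      rw [a4_cm_F0 hy hw (by rw [hwc]) (by rw [hwc]) (by rw [hwc]), hyc, hwc]; simp
    have c5 : (cx co (cm y w)).a5 = 0 := a5_cm_Db hy hw hyI.2.1 hwI.2.1
    have c6 : (cx co (cm y w)).a6 = 0 := a6_cm hy hw
    rw [← e2, ← e1]
    rcases hD.eq_zero_or_one (C.T s κ) with h4 | h4
    · rw [h4] at c4
      rw [eq_one_of_cx (co := co) hcP c1 c2 c3 c4 c5 c6, d_one h, cx_one, h4]
    · rw [h4] at c4
      have : cm y w = z := by
        apply cx_inj (co := co) hcP hz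
        rw [hzc]
        exact Tup.ext c1 c2 c3 c4 c5 c6
      rw [this, hz2, h4]
  obtain ⟨t, e, ht⟩ := d_eq h (b := y)
  have htT := ht hyI
  refine ⟨t, htT, ?_⟩
  rw [← hmain, e, a1_mul (h.T_le t htT).1 hy, hyc, add_zero]

/-- elements `(0, s)` of `T` obtained with `x₆(1)` -/
theorem exists_comm {t : G} (ht : t ∈ T) : ∃ r ∈ T, (cx co r).a1 = 0 ∧ (cx co r).a5 = (cx co t).a1 ∧
    (cx co r).a3 = C.sh (cx co t).a1 + C.cr (cx co t).a1 (cx co t).a1 := by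
  obtain ⟨p, hp, hpc⟩ := exists_cx (co := co) ⟨0, 0, 0, 0, 0, 1⟩
  have htI := h.T_le t ht
  refine ⟨cm p t, ?_, a1_cm hp htI.1, ?_, ?_⟩
  · exact mul_mem (h.conj p hp (by rw [hpc]; exact C.T_zero_left _) (by rw [hpc]; exact C.T_zero_left _) t ht)
      (inv_mem ht)
  · rw [a5_cm hp htI.1, hpc, htI.2.1]; simp
  · rw [a3_cm hp htI.1, hpc, htI.2.1]
    simp [C.cr_zero_left, C.cr_zero_right]

/-- elements `(0, s)` -/
theorem exists_zero_s {s : K} (hs : C.T s k0 = 0) : ∃ r ∈ T, (cx co r).a1 = 0 ∧ (cx co r).a5 = s ∧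
    (cx co r).a3 = C.sh s := by
  obtain ⟨t, ht, e⟩ := exists_a1 hD h hs
  obtain ⟨r, hr, h1, h2, h3⟩ := exists_comm hD h ht
  exact ⟨r, hr, h1, by rw [h2, e], by rw [h3, e, C.cr_self, add_zero]⟩

/-- elements `(s, 0)` -/
theorem exists_s_zero {s : K} (hs : C.T s k0 = 0) : ∃ r ∈ T, (cx co r).a1 = s ∧ (cx co r).a5 = 0 := by
  obtain ⟨t, ht, e⟩ := exists_a1 hD h hs
  have htI := h.T_le t ht
  obtain ⟨r, hr, h1, h2, h3⟩ := exists_zero_s hD h htI.2.2.2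
  have hrI := h.T_le r hr
  refine ⟨t * r, mul_mem ht hr, ?_, ?_⟩
  · rw [a1_mul htI.1 hrI.1, h1, add_zero, e]
  · rw [a5_mul htI.1 hrI.1, htI.2.1, zero_smul, add_zero, h2, C.add_selfK]

theorem T_a3 {q : G} (hq : q ∈ T) (h1 : (cx co q).a1 ≠ 0) (h5 : (cx co q).a5 = 0) :
    C.T (cx co q).a1 (cx co q).a3 = 1 := by
  apply eq_one_of_ne hD
  intro h0
  have hqI := h.T_le q hq
  apply h1
  refine (h.sq q hq (Or.inl ?_)).1
  refine Tup.ext ?_ ?_ ?_ ?_ ?_ ?_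
  · exact a1_sq hqI.1
  · rw [a2_sq_Db hqI.1 hqI.2.1, h0, h5, C.T_zero_right, add_zero]
  · rw [a3_sq_Db hqI.1 hqI.2.1, h5, C.cr_zero_right]
  · rw [a4_sq_Db hqI.1 hqI.2.1, h5, C.sh_zero, C.T_zero_right, C.T_zero_right, add_zero]
  · rw [a5_sq hqI.1, hqI.2.1, zero_smul]
  · exact a6_sq hqI.1

/-- step 6: squares of the elements `(s, t)` with `s ≠ t` nonzero -/
theorem sq_eq {m : G} (hm : m ∈ T) (h1 : (cx co m).a1 ≠ 0) (h5 : (cx co m).a5 ≠ 0)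
    (h15 : (cx co m).a1 ≠ (cx co m).a5) : cx co (m * m) = ⟨0, 0, k0, 1, 0, 0⟩ := by
  have hmI := h.T_le m hm
  obtain ⟨r, hr, r1, r5, r3⟩ := exists_zero_s hD h hmI.2.2.2
  have hrI := h.T_le r hr
  have q1 : (cx co (m * r)).a1 = (cx co m).a1 := by rw [a1_mul hmI.1 hrI.1, r1, add_zero]
  have q5 : (cx co (m * r)).a5 = 0 := by
    rw [a5_mul hmI.1 hrI.1, hmI.2.1, zero_smul, add_zero, r5, C.add_selfK]
  have q3 : (cx co (m * r)).a3 = (cx co m).a3 + C.sh (cx co m).a5 := by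
    rw [a3_mul hmI.1 hrI.1, hmI.2.1, zero_smul, r1, C.cr_zero_left, add_zero, add_zero, r3]
  have e1 := T_a3 hD h (mul_mem hm hr) (by rw [q1]; exact h1) q5
  rw [q1, q3, C.T_add_right] at e1
  have e2 := T_sh_add hD h1 h5 h15
  have h2 := C.char2 1
  have c3 : C.cr (cx co m).a1 (cx co m).a5 = k0 := by
    rcases perp_eq hD h1 h5 h15 hmI.2.2.1 hmI.2.2.2 with h4 | h4
    · exact absurd h4 h.k0_ne
    · exact h4.symm
  have s1 := a1_sq (co := co) hmI.1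
  have s2 : (cx co (m * m)).a2 = 0 := by
    rw [a2_sq_Db hmI.1 hmI.2.1]
    linear_combination e1 + e2 - C.char2 (C.T (cx co m).a1 (C.sh (cx co m).a5)) + h2
  have s3 : (cx co (m * m)).a3 = k0 := by rw [a3_sq_Db hmI.1 hmI.2.1, c3]
  have s5 : (cx co (m * m)).a5 = 0 := by rw [a5_sq hmI.1, hmI.2.1, zero_smul]
  have s6 := a6_sq (co := co) hmI.1
  rcases hD.eq_zero_or_one (cx co (m * m)).a4 with s4 | s4
  · exfalso
    exact h1 (h.sq m hm (Or.inr (Tup.ext s1 s2 s3 s4 s5 s6))).1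
  · exact Tup.ext s1 s2 s3 s4 s5 s6

/-- **The configuration does not exist.** -/
theorem false_of_conf : False := by
  obtain ⟨a, b, ha, hb, hab, hak, hbk, -, -⟩ := exists_perp hD h.k0_ne
  obtain ⟨q, hq, q1, q5⟩ := exists_s_zero hD h hak
  obtain ⟨r, hr, r1, r5, -⟩ := exists_zero_s hD h hbk
  have hqI := h.T_le q hq
  have hrI := h.T_le r hr
  set y := q * r with hy
  have hyT : y ∈ T := mul_mem hq hr
  have hyI := h.T_le y hyT
  have y1 : (cx co y).a1 = a := by rw [hy, a1_mul hqI.1 hrI.1, q1, r1, add_zero]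
  have y5 : (cx co y).a5 = b := by
    rw [hy, a5_mul hqI.1 hrI.1, hqI.2.1, zero_smul, add_zero, q5, r5, zero_add]
  have hyy := sq_eq hD h hyT (by rw [y1]; exact ha) (by rw [y5]; exact hb) (by rw [y1, y5]; exact hab)
  obtain ⟨w, hw, hwc⟩ := exists_cx (co := co) ⟨0, 0, k0, 0, 0, 0⟩
  obtain ⟨z, hz, hzc⟩ := exists_cx (co := co) ⟨0, 0, 0, 1, 0, 0⟩
  have hwI : InP2 co k0 w := ⟨hw, by rw [hwc], by rw [hwc]; exact C.T_zero_left _, by rw [hwc]; exact C.T_zero_left _⟩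
  have hzI : InP2 co k0 z := ⟨hz, by rw [hzc], by rw [hzc]; exact C.T_zero_left _, by rw [hzc]; exact C.T_zero_left _⟩
  have key : ∀ x, InP2 co k0 x → cx co x = ⟨0, 0, k0, 1, 0, 0⟩ → x = w * z := by
    intro x hx hxc
    apply cx_inj (co := co) hx.1 (mul_mem hw hz)
    rw [hxc, cx_mul hw hz, hwc, hzc]
    simp [Cubic.mul, C.T_zero_left, C.T_zero_right, C.cr_zero_left, C.sh_zero, C.N_zero]
  have e1 : y * y = w * z := key _ (hyI.mul hyI) hyy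
  -- `δ y`
  have hdy : δ y ∈ T := by
    obtain ⟨t, e, ht⟩ := d_eq h (b := y)
    rw [e]
    exact mul_mem (ht hyI) hyT
  have hdI := h.T_le _ hdy
  have e2 : δ y * δ y = w * δ z := by
    rw [← h.d_mul y y hyI hyI, e1, h.d_mul w z hwI hzI, h.d_u w hw hwc]
  have fz := d_F0 hD h hz (by rw [hzc]) (by rw [hzc]) (by rw [hzc])
  have fz3 := h.d_V z hz (by rw [hzc]) (by rw [hzc]) (by rw [hzc]) (by rw [hzc])
  have hdzI := d_in h hzI
  have e3 : (cx co (δ y * δ y)).a3 = k0 := by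
    rw [e2, a3_mul hw hdzI.1, hwc, fz3, fz.1, C.cr_zero_left]
    simp
  rw [a3_sq_Db hdI.1 hdI.2.1] at e3
  have hne1 : (cx co (δ y)).a1 ≠ 0 := by
    intro h0
    rw [h0, C.cr_zero_left] at e3
    exact h.k0_ne e3.symm
  have hne5 : (cx co (δ y)).a5 ≠ 0 := by
    intro h0
    rw [h0, C.cr_zero_right] at e3
    exact h.k0_ne e3.symm
  have hne15 : (cx co (δ y)).a1 ≠ (cx co (δ y)).a5 := by
    intro h0
    rw [h0, C.cr_self] at e3
    exact h.k0_ne e3.symm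
  have e4 : δ y * δ y = w * z := key _ (hdI.mul hdI) (sq_eq hD h hdy hne1 hne5 hne15)
  rw [e2] at e4
  exact (h.d_z z hz hzc).1 (mul_left_cancel e4)

end Cfsg.Agent.HexTwoGlob.CoreTwo
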