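import Cfsg.Agent.HexTwoGlob.CompCrit
import Cfsg.Agent.HexTwoGlob.CoreTwo
import Cfsg.Agent.HexEss.Step2

/-!
# From a component of `C_G(w)/O(C_G(w))` to the configuration of `CoreTwo`
-/

set_option autoImplicit false

namespace Cfsg.Agent.HexTwoGlob.CenUConf

open Cfsg.Agent.HexRec Cfsg.Agent.HexEss Cfsg.Agent.HexTwoGlob.Fields Cfsg.Agent.HexTwoGlob.CoreTwo
open Subgroup Cfsg.Agent.Lib.GoldschmidtFusion Cfsg.Agent.TypeL3

universe u v

/-- a bijective correspondence between `C_S(w)` and a subgroup `Q` of `Y` -/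
structure Cor {G Y : Type u} [Group G] [Group Y] (S : Subgroup G) (w : G) (Q : Subgroup Y) (R : G → Y → Prop) :
    Prop where
  mem : ∀ {g : G} {y : Y}, R g y → g ∈ S ∧ g * w = w * g
  memQ : ∀ {g : G} {y : Y}, R g y → y ∈ Q
  ex : ∀ g ∈ S, g * w = w * g → ∃ y, R g y
  exQ : ∀ y ∈ Q, ∃ g, R g y
  func : ∀ {g : G} {x y : Y}, R g x → R g y → x = y
  inj : ∀ {g h : G} {x : Y}, R g x → R h x → g = h
  mul : ∀ {g h : G} {x y : Y}, R g x → R h y → R (g * h) (x * y)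
  inv : ∀ {g : G} {x : Y}, R g x → R g⁻¹ x⁻¹
  cen : ∀ {x : Y}, R w x → ∀ y : Y, x * y = y * x

section

variable {G Y : Type u} [Group G] [Group Y] {S : Subgroup G} {w : G} {Q : Subgroup Y} {R : G → Y → Prop}

theorem Cor.one (h : Cor S w Q R) : R 1 1 := by
  obtain ⟨g, hg⟩ := h.exQ 1 (one_mem _)
  have := h.mul hg (h.inv hg)
  rwa [mul_inv_cancel, mul_inv_cancel] at this

theorem Cor.cm (h : Cor S w Q R) {a b : G} {x y : Y} (ha : R a x) (hb : R b y) : R (cm a b) (cm x y) :=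
  h.mul (h.mul (h.mul ha hb) (h.inv ha)) (h.inv hb)

end

variable {F K : Type v} [Field F] [Field K] [Algebra F K] {C : Cubic F K}
variable {G Y : Type u} [Group G] [Finite G] [Group Y] {S : Subgroup G} {co : Coord C S}
variable {k0 : K} {w : G} {Q V KK : Subgroup Y} {R : G → Y → Prop} {z : G} {z' n : Y}

theorem comm_w_iff (hwS : w ∈ S) (hwc : cx co w = ⟨0, 0, k0, 0, 0, 0⟩) {g : G} (hg : g ∈ S) :
    g * w = w * g ↔ C.T (cx co g).a1 k0 = 0 ∧ C.T (cx co g).a5 k0 = 0 := by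
  have h1 : (cx co w).a1 = 0 := by rw [hwc]
  have h5 : (cx co w).a5 = 0 := by rw [hwc]
  have h6 : (cx co w).a6 = 0 := by rw [hwc]
  have e2 := a2_cm_F0 (co := co) hg hwS h1 h5 h6
  have e4 := a4_cm_F0 (co := co) hg hwS h1 h5 h6
  rw [hwc] at e2 e4
  simp only [mul_zero, zero_add] at e4
  have hE := cm_mem_E2 (co := co) hg (h := w) ⟨hwS, h1, h5, h6⟩
  constructor
  · intro h
    rw [cm_eq_one.2 h, cx_one] at e2 e4
    exact ⟨e2.symm, e4.symm⟩
  · rintro ⟨t1, t5⟩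
    rw [t1] at e2
    rw [t5] at e4
    exact cm_eq_one.1 (eq_one_of_cx (co := co) hE.1 hE.2.1 e2 hE.2.2.1 e4 hE.2.2.2.1 hE.2.2.2.2)

theorem mem_Db_iff {g : G} : g ∈ Db co ↔ g ∈ S ∧ (cx co g).a6 = 0 := Iff.rfl

theorem InP2_iff (hwS : w ∈ S) (hwc : cx co w = ⟨0, 0, k0, 0, 0, 0⟩) {g : G} :
    InP2 co k0 g ↔ g ∈ Db co ∧ g * w = w * g := by
  constructor
  · rintro ⟨h1, h2, h3, h4⟩
    exact ⟨⟨h1, h2⟩, (comm_w_iff hwS hwc h1).2 ⟨h3, h4⟩⟩
  · rintro ⟨⟨h1, h2⟩, h3⟩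
    obtain ⟨h4, h5⟩ := (comm_w_iff hwS hwc h1).1 h3
    exact ⟨h1, h2, h4, h5⟩

theorem sq_w (hwS : w ∈ S) (hwc : cx co w = ⟨0, 0, k0, 0, 0, 0⟩) : w * w = 1 :=
  sq_F0 (co := co) ⟨hwS, by rw [hwc], by rw [hwc], by rw [hwc]⟩

/-- the preimage of `KK` -/
def TT (hR : Cor S w Q R) (KK : Subgroup Y) : Subgroup G where
  carrier := {g | ∃ y ∈ KK, R g y}
  mul_mem' := by
    rintro a b ⟨x, hx, hax⟩ ⟨y, hy, hby⟩
    exact ⟨x * y, mul_mem hx hy, hR.mul hax hby⟩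
  one_mem' := ⟨1, one_mem _, hR.one⟩
  inv_mem' := by
    rintro a ⟨x, hx, hax⟩
    exact ⟨x⁻¹, inv_mem hx, hR.inv hax⟩

theorem mem_TT {hR : Cor S w Q R} {g : G} : g ∈ TT hR KK ↔ ∃ y ∈ KK, R g y := Iff.rfl

open Classical in
/-- conjugation by `n` -/
noncomputable def del (R : G → Y → Prop) (n : Y) (g : G) : G :=
  if h : ∃ a : G, ∃ y : Y, R g y ∧ R a (n * y * n⁻¹) then h.choose else 1

theorem del_spec {g : G} (h : ∃ a : G, ∃ y : Y, R g y ∧ R a (n * y * n⁻¹)) :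
    ∃ y : Y, R g y ∧ R (del R n g) (n * y * n⁻¹) := by
  unfold del
  rw [dif_pos h]
  exact h.choose_spec

section main

variable (hR : Cor S w Q R) (hwS : w ∈ S) (hwc : cx co w = ⟨0, 0, k0, 0, 0, 0⟩)
  (hV : ∀ {g : G} {y : Y}, R g y → (y ∈ V ↔ g ∈ E2 co)) (hVQ : V ≤ Q) (ho : CompCrit.Out Q V KK z' n)

include hR hwS hwc hV hVQ

/-- elements of `C_{Db}(w)` correspond to the elements of `Q` centralising `V` -/
theorem comm_V {g : G} {y : Y} (h : R g y) : InP2 co k0 g ↔ ∀ v ∈ V, y * v = v * y := by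
  rw [InP2_iff hwS hwc]
  constructor
  · rintro ⟨h1, -⟩ v hv
    obtain ⟨x, hx⟩ := hR.exQ v (hVQ hv)
    have hxE := (hV hx).1 hv
    have h2 : g * x = x * g := cm_eq_one.1 (cm_Db_E2 h1 hxE)
    have h3 := hR.mul h hx
    rw [h2] at h3
    exact hR.func h3 (hR.mul hx h)
  · intro h1
    refine ⟨⟨(hR.mem h).1, a6_eq_zero_of_comm (hR.mem h).1 fun x hx => ?_⟩, (hR.mem h).2⟩
    rw [cm_eq_one]
    have hxw : x * w = w * x := cm_eq_one.1 (cm_F0_F0 (E2_le_F0 hx)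
      (⟨hwS, by rw [hwc], by rw [hwc], by rw [hwc]⟩ : w ∈ F0 co))
    obtain ⟨v, hv⟩ := hR.ex x hx.1 hxw
    have h2 := h1 v ((hV hv).2 hx)
    have h3 := hR.mul h hv
    rw [h2] at h3
    exact hR.inj h3 (hR.mul hv h)

include ho

theorem cen_KK {y : Y} (hy : ∀ c : Y, y * c = c * y) : y ∈ centralizer (KK : Set Y) :=
  mem_centralizer_iff.2 fun c _ => (hy c).symm

theorem conj_cen {c x : Y} (hc : c ∈ centralizer (KK : Set Y)) : x * c * x⁻¹ ∈ centralizer (KK : Set Y) := by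
  rw [mem_centralizer_iff] at hc ⊢
  intro k hk
  have h1 : x⁻¹ * k * x ∈ KK := by
    have := ho.conj x⁻¹ k hk
    rwa [inv_inv] at this
  have h2 := hc _ h1
  calc k * (x * c * x⁻¹) = x * (x⁻¹ * k * x * c) * x⁻¹ := by group
    _ = x * c * x⁻¹ * k := by rw [h2]; group

theorem cm_cen {c x : Y} (hc : c ∈ centralizer (KK : Set Y)) : cm x c ∈ centralizer (KK : Set Y) := by
  have e : cm x c = (x * c * x⁻¹) * c⁻¹ := rfl
  rw [e]
  exact mul_mem (conj_cen hR hwS hwc hV hVQ ho hc) (inv_mem hc)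

/-- an element of `V` centralising `KK` is trivial -/
theorem eq_one_of_cen {g : G} {y : Y} (h : R g y) (hg : g ∈ E2 co) (hy : y ∈ centralizer (KK : Set Y)) : g = 1 := by
  have h1 := ho.V_inf y ((hV h).2 hg) hy
  rw [h1] at h
  exact hR.inj h hR.one

/-- `C_Q(KK)` corresponds to a subgroup of `⟨w⟩` -/
theorem cen_eq (hD : Dat2 C) (hk0 : k0 ≠ 0) {g : G} {y : Y} (h : R g y)
    (hy : y ∈ centralizer (KK : Set Y)) : g = 1 ∨ g = w := by
  have hwF : w ∈ F0 co := ⟨hwS, by rw [hwc], by rw [hwc], by rw [hwc]⟩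
  have hgI : InP2 co k0 g := (comm_V hR hwS hwc hV hVQ h).2 fun v hv =>
    ((mem_centralizer_iff.1 hy) v (ho.V_le hv)).symm
  have hgF : g ∈ F0 co := by
    apply mem_F0_of_cm_eq_one hgI.1
    intro x hx
    have hxw : x * w = w * x := cm_eq_one.1 (cm_F0_F0 hx hwF)
    obtain ⟨x', hx'⟩ := hR.ex x hx.1 hxw
    have h1 := hR.cm hx' h
    have h2 : cm x g ∈ E2 co := by
      rw [cm_swap]
      exact inv_mem (cm_mem_E2 hgI.1 hx)
    have h3 := eq_one_of_cen hR hwS hwc hV hVQ ho h1 h2 (cm_cen hR hwS hwc hV hVQ ho hy)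
    rw [cm_swap, h3, inv_one]
  -- commutators with `x1(s)`
  have key : ∀ s : K, C.T s k0 = 0 → C.T s (cx co g).a3 = 0 := by
    intro s hs
    obtain ⟨x, hx, hxc⟩ := exists_cx (co := co) ⟨s, 0, 0, 0, 0, 0⟩
    have hxw : x * w = w * x := (comm_w_iff hwS hwc hx).2
      ⟨by rw [hxc]; exact hs, by rw [hxc]; exact C.T_zero_left _⟩
    obtain ⟨x', hx'⟩ := hR.ex x hx hxw
    have h3 := eq_one_of_cen hR hwS hwc hV hVQ ho (hR.cm hx' h) (cm_mem_E2 hx hgF)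
      (cm_cen hR hwS hwc hV hVQ ho hy)
    have e2 := a2_cm_F0 (co := co) hx hgF.1 hgF.2.1 hgF.2.2.1 hgF.2.2.2
    rw [h3, cx_one, hxc] at e2
    exact e2.symm
  obtain ⟨a, b, ha, hb, hab, hak, hbk, hcr, -⟩ := exists_perp hD hk0
  have h3 : (cx co g).a3 = 0 ∨ (cx co g).a3 = k0 := by
    rcases perp_eq hD ha hb hab (key a hak) (key b hbk) with h3 | h3
    · exact Or.inl h3
    · exact Or.inr (h3.trans hcr)
  rcases h3 with h3 | h3
  · left
    exact eq_one_of_cen hR hwS hwc hV hVQ ho h ⟨hgF.1, hgF.2.1, h3, hgF.2.2.1, hgF.2.2.2⟩ hy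
  · right
    obtain ⟨w', hw'⟩ := hR.ex w hwS rfl
    have h4 : g * w ∈ E2 co := by
      have h5 := mul_mem hgF hwF
      refine ⟨h5.1, h5.2.1, ?_, h5.2.2.1, h5.2.2.2⟩
      rw [a3_mul hgF.1 hwS, hwc, h3, hgF.2.2.2, zero_smul, C.cr_zero_left, add_zero, add_zero, C.add_selfK]
    have h6 := eq_one_of_cen hR hwS hwc hV hVQ ho (hR.mul h hw') h4
      (mul_mem hy (cen_KK hR hwS hwc hV hVQ ho (hR.cen hw')))
    rw [mul_eq_one_iff_eq_inv] at h6
    rw [h6, inv_eq_of_mul_eq_one_left (sq_w hwS hwc)]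

theorem del_spec' {g : G} (hg : InP2 co k0 g) : ∃ y : Y, R g y ∧ R (del R n g) (n * y * n⁻¹) ∧
    n * y * n⁻¹ * y⁻¹ ∈ Q ⊓ KK := by
  obtain ⟨y, hy⟩ := hR.ex g hg.1 ((InP2_iff hwS hwc).1 hg).2
  have h1 := (comm_V hR hwS hwc hV hVQ hy).1 hg
  obtain ⟨h2, h3⟩ := ho.n_B y (hR.memQ hy) h1
  obtain ⟨a, ha⟩ := hR.exQ _ h2
  obtain ⟨y', hy', h4⟩ := del_spec (R := R) (n := n) (g := g) ⟨a, y, hy, ha⟩
  have e := hR.func hy hy'
  subst e
  exact ⟨y, hy, h4, h3⟩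

theorem del_eq {g a : G} (hg : InP2 co k0 g) {y : Y} (hy : R g y) (ha : R a (n * y * n⁻¹)) : del R n g = a := by
  obtain ⟨y', hy', h1, -⟩ := del_spec' hR hwS hwc hV hVQ ho hg
  have e := hR.func hy hy'
  subst e
  exact hR.inj h1 ha

/-- the configuration -/
theorem conf (hD : Dat2 C) (hk0 : k0 ≠ 0) (hzS : z ∈ S) (hzc : cx co z = ⟨0, 0, 0, 1, 0, 0⟩) (hz : R z z') :
    Conf co k0 (TT hR KK) (del R n) where
  k0_ne := hk0
  T_le := by
    rintro t ⟨y, hy, hty⟩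
    exact (comm_V hR hwS hwc hV hVQ hty).2 fun v hv => ho.comm v hv y (mem_inf.2 ⟨hR.memQ hty, hy⟩)
  conj := by
    rintro p hp h1 h5 t ⟨y, hy, hty⟩
    obtain ⟨x, hx⟩ := hR.ex p hp ((comm_w_iff hwS hwc hp).2 ⟨h1, h5⟩)
    exact ⟨x * y * x⁻¹, ho.conj x y hy, hR.mul (hR.mul hx hty) (hR.inv hx)⟩
  sq := by
    rintro t ⟨y, hy, hty⟩ ht
    have htS := (hR.mem hty).1
    obtain ⟨w', hw'⟩ := hR.ex w hwS rfl
    have hyy : y * y ∈ centralizer (KK : Set Y) := by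
      have h1 := hR.mul hty hty
      rcases ht with ht | ht
      · have e : t * t = 1 := eq_one_of_cx (co := co) (mul_mem htS htS) (by rw [ht]) (by rw [ht]) (by rw [ht])
          (by rw [ht]) (by rw [ht]) (by rw [ht])
        rw [e] at h1
        rw [hR.func h1 hR.one]
        exact one_mem _
      · have e : t * t = w := by
          apply cx_inj (co := co) (mul_mem htS htS) hwS
          rw [ht, hwc]
        rw [e] at h1
        rw [hR.func h1 hw']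
        exact cen_KK hR hwS hwc hV hVQ ho (hR.cen hw')
    obtain ⟨q, hq, c, hc, e⟩ := ho.sq y (mem_inf.2 ⟨hR.memQ hty, hy⟩) hyy
    obtain ⟨q', hq'⟩ := hR.exQ q (hVQ hq)
    obtain ⟨c', hc'⟩ := hR.exQ c (ho.cen_le hc)
    have hqE := (hV hq').1 hq
    have ht' : t = q' * c' := by
      have h1 := hR.mul hq' hc'
      rw [← e] at h1
      exact hR.inj hty h1
    rcases cen_eq hR hwS hwc hV hVQ ho hD hk0 hc' (mem_inf.1 hc).2 with h1 | h1
    · rw [ht', h1, mul_one]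
      exact ⟨hqE.2.1, hqE.2.2.2.1, Or.inl hqE.2.2.1⟩
    · rw [ht', h1, a1_mul hqE.1 hwS, a5_mul hqE.1 hwS, a3_mul hqE.1 hwS, hqE.2.1, hqE.2.2.1, hqE.2.2.2.1,
        hqE.2.2.2.2, hwc]
      simp [C.cr_zero_left]
  d_mem := by
    intro b hb
    obtain ⟨y, hy, h1, h2⟩ := del_spec' hR hwS hwc hV hVQ ho hb
    exact ⟨n * y * n⁻¹ * y⁻¹, (mem_inf.1 h2).2, hR.mul h1 (hR.inv hy)⟩
  d_mul := by
    intro a b ha hb
    obtain ⟨x, hx, h1, -⟩ := del_spec' hR hwS hwc hV hVQ ho ha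
    obtain ⟨y, hy, h2, -⟩ := del_spec' hR hwS hwc hV hVQ ho hb
    refine del_eq hR hwS hwc hV hVQ ho (ha.mul hb) (hR.mul hx hy) ?_
    have := hR.mul h1 h2
    have e : n * x * n⁻¹ * (n * y * n⁻¹) = n * (x * y) * n⁻¹ := by group
    rwa [e] at this
  d_surj := by
    intro b hb
    obtain ⟨y, hy⟩ := hR.ex b hb.1 ((InP2_iff hwS hwc).1 hb).2
    have h1 := (comm_V hR hwS hwc hV hVQ hy).1 hb
    obtain ⟨a, ha⟩ := hR.exQ _ (ho.n_B' y (hR.memQ hy) h1)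
    have haI : InP2 co k0 a := by
      rw [comm_V hR hwS hwc hV hVQ ha]
      intro v hv
      have h2 := h1 _ (conj_mem_of_mem_normalizer ho.n_V hv)
      calc n⁻¹ * y * n * v = n⁻¹ * (y * (n * v * n⁻¹)) * n := by group
        _ = v * (n⁻¹ * y * n) := by rw [h2]; group
    refine ⟨a, haI, del_eq hR hwS hwc hV hVQ ho haI ha ?_⟩
    have e : n * (n⁻¹ * y * n) * n⁻¹ = y := by group
    rw [e]; exact hy
  d_V := by
    intro v hv h1 h3 h5 h6
    have hvE : v ∈ E2 co := ⟨hv, h1, h3, h5, h6⟩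
    have hvI : InP2 co k0 v := ⟨hv, h6, by rw [h1, C.T_zero_left], by rw [h5, C.T_zero_left]⟩
    obtain ⟨y, hy, h7, -⟩ := del_spec' hR hwS hwc hV hVQ ho hvI
    exact ((hV h7).1 (conj_mem_of_mem_normalizer ho.n_V ((hV hy).2 hvE))).2.2.1
  d_u := by
    intro x hx hxc
    have e : x = w := by
      apply cx_inj (co := co) hx hwS
      rw [hxc, hwc]
    subst e
    have hxI : InP2 co k0 x := ⟨hx, by rw [hxc], by rw [hxc]; exact C.T_zero_left _,
      by rw [hxc]; exact C.T_zero_left _⟩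
    obtain ⟨y, hy⟩ := hR.ex x hx rfl
    refine del_eq hR hwS hwc hV hVQ ho hxI hy ?_
    have e : n * y * n⁻¹ = y := by rw [← hR.cen hy n]; group
    rw [e]; exact hy
  d_z := by
    intro x hx hxc
    have e : x = z := by
      apply cx_inj (co := co) hx hzS
      rw [hxc, hzc]
    subst e
    have hxI : InP2 co k0 x := ⟨hx, by rw [hxc], by rw [hxc]; exact C.T_zero_left _,
      by rw [hxc]; exact C.T_zero_left _⟩
    obtain ⟨y, hy, h1, -⟩ := del_spec' hR hwS hwc hV hVQ ho hxI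
    have e := hR.func hz hy
    subst e
    constructor
    · intro h2
      rw [h2] at h1
      exact ho.n_z (hR.func h1 hz)
    · intro h2
      rw [h2] at h1
      have h3 := hR.func h1 hR.one
      have h4 : z' = 1 := by
        have := congrArg (fun t => n⁻¹ * t * n) h3
        simpa [mul_assoc] using this
      rw [h4] at hz
      have h5 := hR.inj hz hR.one
      rw [h5, cx_one] at hxc
      exact zero_ne_one (congrArg Tup.a4 hxc)

theorem false_of_cor (hD : Dat2 C) (hk0 : k0 ≠ 0) (hzS : z ∈ S) (hzc : cx co z = ⟨0, 0, 0, 1, 0, 0⟩)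
    (hz : R z z') : False :=
  false_of_conf hD (conf hR hwS hwc hV hVQ ho hD hk0 hzS hzc hz)

end main

end Cfsg.Agent.HexTwoGlob.CenUConf
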