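import Cfsg.Agent.HexGlob.CenU
import Cfsg.Agent.HexTwo.Facts

/-!
# `V` is strongly closed in `C_S(u)` with respect to `C_G(u)`, all `q` (degree three)
-/

set_option autoImplicit false

namespace Cfsg.Agent.HexTwoGlob.CenUFus

open Cfsg.Agent.HexRec Cfsg.Agent.HexEss Subgroup Cfsg.Agent.Lib.GoldschmidtFusion
open Cfsg.Agent.SignalizersComponents.PLayerAut (relCore relCore_le relCore_def)
open Cfsg.Agent.HexGlob Cfsg.Agent.HexGlob.CenUSpec Cfsg.Agent.HexTwo.Facts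

open Cfsg.Agent.HexGlob.CenU (EZ EE S_le_cent mem_EZ conj_mem_EZ mem_Da_of_EZ conj_mem_EE frattini
  S_le_normalizer_Da L1_le L2_le exists_Z_ne_one mem_RR_of_comm)
open Cfsg.Agent.SignalizersComponents

universe u v

variable {F K : Type v} [Field F] [Field K] [Algebra F K] {C : Cubic F K}
variable {G : Type u} [Group G] [Finite G] {S : Sylow 2 G} {co : Coord C (S : Subgroup G)}

theorem wd (hT : DatT C) (oZ : OutZ S co) {z z' m x : G} (hz : z ∈ Z co) (hz' : z' ∈ Z co)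
    (hz1' : z' ≠ 1) (hm : m * z * m⁻¹ = z') (hx : x ∈ EZ co z) : m * x * m⁻¹ ∈ EZ co z' := by
  have hcent : (centralizer ({z} : Set G)).map (MulAut.conj m).toMonoidHom = centralizer ({z'} : Set G) := by
    rw [← hm]; exact IntrinsicBasic.cj_centralizer m z
  have hSm : (S : Subgroup G).map (MulAut.conj m).toMonoidHom ≤ centralizer ({z'} : Set G) := by
    rw [← hcent]; exact Subgroup.map_mono (S_le_cent hz)
  obtain ⟨c, hc, hle⟩ := exists_conj_le_in (p := 2) S.isPGroup' (Cfsg.Agent.TypeL3.sylow_not_dvd_relIndex S (S_le_cent hz')) hSm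
    (S.isPGroup'.map _)
  rw [map_conj_map_conj] at hle
  have hcm : c * m ∈ normalizer ((S : Subgroup G) : Set G) :=
    mem_normalizer_iff_map_conj.2 (map_conj_le_of_le_normalizer hle)
  have hcm' := le_normalizer_Da_of_P (co := co) hT le_rfl hcm
  obtain ⟨d, hd, o, ho, rfl⟩ := (mem_EZ hz).1 hx
  have h1 : m * (d * o) * m⁻¹ = (c⁻¹ * ((c * m) * d * (c * m)⁻¹) * c⁻¹⁻¹) * (m * o * m⁻¹) := by group
  rw [h1]
  refine mul_mem (conj_mem_EZ oZ hz' hz1' (inv_mem hc) (mem_sup_left ?_)) (mem_sup_right ?_)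
  · exact (mem_normalizer_iff.1 hcm' d).1 hd
  · have h2 := IntrinsicBasic.cj_relCore m (centralizer ({z} : Set G))
    rw [IntrinsicBasic.cj_def, IntrinsicBasic.cj_def, hcent] at h2
    rw [← h2]
    exact conj_mem_map_conj ho m

theorem mem_EE_iff (hT : DatT C) (oZ : OutZ S co) {z g a y : G} (hz : z ∈ Z co) (hz1 : z ≠ 1)
    (h : g * z * g⁻¹ = a) : y ∈ EE co a ↔ g⁻¹ * y * g ∈ EZ co z := by
  constructor
  · rintro ⟨z', hz', hz1', g', h', hy⟩
    have h1 : (g⁻¹ * g') * z' * (g⁻¹ * g')⁻¹ = z := by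
      calc (g⁻¹ * g') * z' * (g⁻¹ * g')⁻¹ = g⁻¹ * (g' * z' * g'⁻¹) * g := by group
        _ = z := by rw [h', ← h]; group
    have h2 := wd hT oZ hz' hz hz1 h1 hy
    have h3 : (g⁻¹ * g') * (g'⁻¹ * y * g') * (g⁻¹ * g')⁻¹ = g⁻¹ * y * g := by group
    rwa [h3] at h2
  · intro hy
    exact ⟨z, hz, hz1, g, h, hy⟩

theorem conj_mem_E2 (hT : DatT C) (o1 : Out1 S co) (o2 : Out2 S co) (oZ : OutZ S co) (oF : OutFus S co)
    {u : G} (hu : u ∈ F0 co) (huZ : u ∉ Z co) {v c : G} (hv : v ∈ E2 co) (hc : c * u = u * c)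
    (hcS : c * v * c⁻¹ ∈ (S : Subgroup G)) : c * v * c⁻¹ ∈ E2 co := by
  by_contra hcon
  have hv1 : v ≠ 1 := by
    rintro rfl
    apply hcon
    rw [mul_one, mul_inv_cancel]
    exact one_mem _
  obtain ⟨z, hz, hz1⟩ := exists_Z_ne_one co
  have hzE := Z_le_E2 hz
  obtain ⟨l, hl, hlv⟩ := o2.trans z hzE hz1 v hv hv1
  -- `a' = c v c⁻¹` is a conjugate of `z`
  have ha' : (c * l) * z * (c * l)⁻¹ = c * v * c⁻¹ := by rw [← hlv]; group
  obtain ⟨n, hn, b0, hb0, e0⟩ := oF.fus z hz hz1 (c * l) (by rw [ha']; exact hcS)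
  rw [ha'] at e0
  obtain ⟨g, hg, s, hs, rfl⟩ := frattini hn S_le_normalizer_Da
  change g ∈ L1 S co at hg
  set b := s * b0 * s⁻¹ with hbdef
  have hb : b ∈ E2 co := conj_mem_of_le (le_normalizer_E2_of_P hT le_rfl) hs hb0
  have e : c * v * c⁻¹ = g * b * g⁻¹ := by rw [e0, hbdef]; group
  have hgN : g ∉ normalizer ((E2 co : Subgroup G) : Set G) := by
    intro h
    apply hcon
    rw [e]
    exact (mem_normalizer_iff.1 h b).1 hb
  have hbZ : b ∉ Z co := by
    intro h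
    apply hcon
    rw [e, o1.cent g hg b h, mul_inv_cancel_right]
    exact hb
  have hb1 : b ≠ 1 := by
    rintro h
    apply hbZ
    rw [h]
    exact one_mem _
  -- `u ∈ EE a'`
  have huv : u ∈ EE co v := by
    rw [mem_EE_iff hT oZ hz hz1 hlv]
    apply mem_sup_left
    apply F0_le_Da
    have := conj_mem_of_le (o2.inv) (inv_mem (L2_le hl)) hu
    simpa using this
  have hu' : u ∈ EE co (c * v * c⁻¹) := by
    have := conj_mem_EE c huv
    rwa [hc, mul_inv_cancel_right] at this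
  -- `y = g⁻¹ u g`
  set y := g⁻¹ * u * g with hydef
  have hyE : y ∈ EE co b := by
    have := conj_mem_EE g⁻¹ hu'
    rw [e] at this
    have e1 : g⁻¹ * (g * b * g⁻¹) * g⁻¹⁻¹ = b := by group
    have e2 : g⁻¹ * u * g⁻¹⁻¹ = y := by rw [hydef]; group
    rwa [e1, e2] at this
  have hyDa : y ∈ Da co := by
    have := conj_mem_of_le (L1_le (co := co)) (inv_mem hg) (F0_le_Da hu)
    simpa [hydef] using this
  have huv' : u * v = v * u := cm_eq_one.1 (cm_F0_F0 hu (E2_le_F0 hv))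
  have hyb : cm y b = 1 := by
    rw [cm_eq_one]
    have h1 : u * (c * v * c⁻¹) = (c * v * c⁻¹) * u := by
      have hc' : c⁻¹ * u = u * c⁻¹ := by
        rw [inv_mul_eq_iff_eq_mul, ← mul_assoc, hc, mul_inv_cancel_right]
      calc u * (c * v * c⁻¹) = (u * c) * v * c⁻¹ := by group
        _ = c * (u * v) * c⁻¹ := by rw [← hc]; group
        _ = c * v * (u * c⁻¹) := by rw [huv']; group
        _ = (c * v * c⁻¹) * u := by rw [← hc']; group
    rw [e] at h1
    calc y * b = g⁻¹ * (u * (g * b * g⁻¹)) * g := by rw [hydef]; group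
      _ = b * y := by rw [h1, hydef]; group
  have hyR : y ∈ RR co := mem_RR_of_comm hyDa hb hbZ hyb
  obtain ⟨l', hl', hlb⟩ := o2.trans z hzE hz1 b hb hb1
  have hl'N : l' ∉ normalizer ((Z co : Subgroup G) : Set G) := by
    intro h
    apply hbZ
    rw [← hlb]
    exact (mem_normalizer_iff.1 h z).1 hz
  have hl'i : l'⁻¹ ∉ normalizer ((Z co : Subgroup G) : Set G) := fun h => hl'N (by simpa using inv_mem h)
  -- `y' = l'⁻¹ y l'`
  have hy'E : l'⁻¹ * y * l' ∈ EZ co z := (mem_EE_iff hT oZ hz hz1 hlb).1 hyE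
  have hy'Db : l'⁻¹ * y * l' ∈ Db co := by
    have := conj_mem_of_le (L2_le (co := co)) (inv_mem hl') (RR_le_Db hyR)
    simpa using this
  have hy'Da : l'⁻¹ * y * l' ∈ Da co := mem_Da_of_EZ hz hy'Db.1 hy'E
  have hyF : y ∈ F0 co := by
    apply mem_F0_of_cm_eq_one hyR.1
    intro w hw
    by_contra hne
    have h1 : cm y w ∈ Z co := cm_mem_Z_of_Da hyDa (F0_le_Da hw)
    apply hl'i
    refine o2.ti l'⁻¹ (inv_mem (L2_le hl')) _ h1 hne ?_
    rw [conj_cm]
    have hw' : l'⁻¹ * w * l'⁻¹⁻¹ ∈ F0 co := conj_mem_of_le o2.inv (inv_mem (L2_le hl')) hw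
    refine cm_mem_Z_of_Da ?_ (F0_le_Da hw')
    simpa using hy'Da
  have hyZ : y ∈ Z co := by
    refine o1.f2 g hg hgN y hyF ?_
    have : g * y * g⁻¹ = u := by rw [hydef]; group
    rw [this]; exact hu
  apply huZ
  have : u = g * y * g⁻¹ := by rw [hydef]; group
  rw [this, o1.cent g hg y hyZ, mul_inv_cancel_right]
  exact hyZ

end Cfsg.Agent.HexTwoGlob.CenUFus
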