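import Cfsg.Agent.HexTwoGlob.CenUFus
import Cfsg.Agent.HexTwoGlob.CenUConf
import Cfsg.Agent.HexGlob.CenUComp

/-!
# `C_G(u)/O(C_G(u))` has no component, `u = x3(k)`, `q = 2` (piece P7)
-/

set_option autoImplicit false

namespace Cfsg.Agent.HexTwoGlob.CenUTwo

open Cfsg.Agent.HexRec Cfsg.Agent.HexEss Subgroup Cfsg.Agent.Lib.GoldschmidtFusion
open Cfsg.Agent.HexGlob Cfsg.Agent.HexGlob.CenUSpec Cfsg.Agent.HexTwo.Facts
open Cfsg.Agent.HexGlob.CenUComp (exists_trans not_hasComponent_E2)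
open Cfsg.Agent.TypeL3 (H1169 H1171)
open Cfsg.Agent.HexGlob.MinPlus (HBend)

universe u v

variable {F K : Type v} [Field F] [Field K] [Algebra F K] {C : Cubic F K}
variable {G : Type u} [Group G] [Finite G] {S : Sylow 2 G} {co : Coord C (S : Subgroup G)}

theorem not_hasComponent (h1169 : H1169.{u}) (h1171 : H1171.{u}) (hbend : HBend.{u}) (hD : Dat2 C) (o1 : Out1 S co)
    (o2 : Out2 S co) (oZ : OutZ S co) (oF : OutFus S co) {w : G} {k0 : K} (hk0 : k0 ≠ 0)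
    (hwS : w ∈ (S : Subgroup G)) (hwc : cx co w = ⟨0, 0, k0, 0, 0, 0⟩)
    (hP : ∃ P : Sylow 2 (centralizer ({w} : Set G)), (P : Subgroup (centralizer ({w} : Set G))) =
      (S : Subgroup G).subgroupOf (centralizer ({w} : Set G))) :
    ¬ Cfsg.HasComponent (centralizer ({w} : Set G) ⧸ Cfsg.oddCore (centralizer ({w} : Set G))) := by
  have hT : DatT C := ⟨hD.reg, hD.deg⟩
  have hw : w ∈ F0 co := ⟨hwS, by rw [hwc], by rw [hwc], by rw [hwc]⟩
  have hwV : w ∉ E2 co := fun h => hk0 (by have := h.2.2.1; rwa [hwc] at this)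
  set H := centralizer ({w} : Set G) with hHdef
  obtain ⟨P, hP'⟩ := hP
  set O := Cfsg.oddCore H with hO
  have hOn : O.Normal := Cfsg.Agent.Lib.Cores.pPrimeCore_normal 2
  have hOodd : (Nat.card O).Coprime 2 := Cfsg.Agent.Lib.Cores.pPrimeCore_coprime 2
  let PY := P.mapSurjective (QuotientGroup.mk'_surjective O)
  have hPY : (PY : Subgroup (H ⧸ O)) = (P : Subgroup H).map (QuotientGroup.mk' O) := rfl
  have hcomm : ∀ {x : H}, (x : G) * w = w * x := fun {x} => mem_centralizer_singleton_iff.1 x.2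
  have hww : w * w = 1 := sq_F0 hw
  have hVH : E2 co ≤ H := fun v hv => mem_centralizer_singleton_iff.2
    (cm_eq_one.1 (cm_F0_F0 (E2_le_F0 hv) hw))
  have hmemP : ∀ {x : H}, x ∈ (P : Subgroup H) ↔ (x : G) ∈ (S : Subgroup G) := by
    intro x; rw [hP', mem_subgroupOf]
  -- injectivity on `P`
  have hinj : ∀ x ∈ (P : Subgroup H), QuotientGroup.mk' O x = 1 → x = 1 := by
    intro x hx hx1
    have hxO : x ∈ O := (QuotientGroup.eq_one_iff _).1 hx1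
    have h1 : orderOf x ∣ Nat.card O := by
      have := orderOf_dvd_natCard (⟨x, hxO⟩ : O)
      rwa [← Subgroup.orderOf_coe] at this
    obtain ⟨k, hk⟩ := P.isPGroup' ⟨x, hx⟩
    have h2 : orderOf x ∣ 2 ^ k := orderOf_dvd_of_pow_eq_one (congrArg Subtype.val hk)
    have h3 : orderOf x ∣ Nat.gcd (Nat.card O) (2 ^ k) := Nat.dvd_gcd h1 h2
    rw [Nat.Coprime.pow_right k hOodd] at h3
    exact orderOf_eq_one_iff.1 (Nat.dvd_one.1 h3)
  have hinj2 : ∀ x ∈ (P : Subgroup H), ∀ y ∈ (P : Subgroup H), QuotientGroup.mk' O x = QuotientGroup.mk' O y →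
      x = y := by
    intro x hx y hy h
    have := hinj (x⁻¹ * y) (mul_mem (inv_mem hx) hy) (by rw [map_mul, map_inv, h, inv_mul_cancel])
    exact inv_mul_eq_one.1 this
  have hclosed : Cfsg.IsStronglyClosed ((E2 co).subgroupOf H) (P : Subgroup H) := by
    refine ⟨fun x hx => hmemP.2 (E2_le (mem_subgroupOf.1 hx)), fun x hx g hg => ?_⟩
    rw [mem_subgroupOf] at hx ⊢
    exact CenUFus.conj_mem_E2 hT o1 o2 oZ oF hw (fun h => hwV (Z_le_E2 h)) hx hcomm (hmemP.1 hg)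
  have hV' := Cfsg.Agent.S1250.result P _ hclosed O
  have hqc : ∀ {a b : G} (haH : a ∈ H) (hbH : b ∈ H), a * b = b * a →
      QuotientGroup.mk' O ⟨a, haH⟩ * QuotientGroup.mk' O ⟨b, hbH⟩ =
        QuotientGroup.mk' O ⟨b, hbH⟩ * QuotientGroup.mk' O ⟨a, haH⟩ := by
    intro a b haH hbH h
    rw [← map_mul, ← map_mul]
    congr 1
    exact Subtype.ext h
  have hne1 : ∀ {a : H}, QuotientGroup.mk' O a ≠ 1 → (a : G) ≠ 1 := by
    intro a h h1
    apply h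
    have : a = 1 := Subtype.ext h1
    rw [this, map_one]
  -- the correspondence
  let R : G → H ⧸ O → Prop := fun g y => ∃ h : g ∈ H, g ∈ (S : Subgroup G) ∧ QuotientGroup.mk' O ⟨g, h⟩ = y
  have hR : CenUConf.Cor (S : Subgroup G) w (PY : Subgroup (H ⧸ O)) R := by
    refine ⟨?_, ?_, ?_, ?_, ?_, ?_, ?_, ?_, ?_⟩
    · rintro g y ⟨h, hS, -⟩
      exact ⟨hS, mem_centralizer_singleton_iff.1 h⟩
    · rintro g y ⟨h, hS, rfl⟩
      exact ⟨⟨g, h⟩, hmemP.2 hS, rfl⟩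
    · intro g hg hgw
      exact ⟨_, mem_centralizer_singleton_iff.2 hgw, hg, rfl⟩
    · rintro _ ⟨x, hx, rfl⟩
      exact ⟨x, x.2, hmemP.1 hx, rfl⟩
    · rintro g x y ⟨h, -, rfl⟩ ⟨h', -, rfl⟩
      rfl
    · rintro g g' x ⟨h, hS, rfl⟩ ⟨h', hS', e⟩
      exact congrArg Subtype.val (hinj2 ⟨g, h⟩ (hmemP.2 hS) ⟨g', h'⟩ (hmemP.2 hS') e.symm)
    · rintro g g' x y ⟨h, hS, rfl⟩ ⟨h', hS', rfl⟩
      exact ⟨mul_mem h h', mul_mem hS hS', by rw [← map_mul]; rfl⟩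
    · rintro g x ⟨h, hS, rfl⟩
      exact ⟨inv_mem h, inv_mem hS, by rw [← map_inv]; rfl⟩
    · rintro x ⟨h, hS, rfl⟩ y
      obtain ⟨y, rfl⟩ := QuotientGroup.mk'_surjective O y
      exact hqc h y.2 (hcomm (x := y)).symm
  have hV : ∀ {g : G} {y : H ⧸ O}, R g y → (y ∈ ((E2 co).subgroupOf H).map (QuotientGroup.mk' O) ↔ g ∈ E2 co) := by
    rintro g y hgy
    have hgy' := hgy
    obtain ⟨h, hS, rfl⟩ := hgy'
    constructor
    · rintro ⟨v, hv, e⟩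
      have hv' : (v : G) ∈ E2 co := hv
      have h1 := hR.inj hgy ⟨v.2, E2_le hv', e⟩
      rw [h1]; exact hv'
    · intro hg
      exact ⟨⟨g, h⟩, hg, rfl⟩
  obtain ⟨z, hzS, hzc⟩ := exists_cx (co := co) ⟨0, 0, 0, 1, 0, 0⟩
  have hzZ : z ∈ Z co := ⟨hzS, by rw [hzc], by rw [hzc], by rw [hzc], by rw [hzc], by rw [hzc]⟩
  have hzE := Z_le_E2 hzZ
  have hz1 : z ≠ 1 := by
    rintro rfl
    rw [cx_one] at hzc
    exact zero_ne_one (congrArg Tup.a4 hzc)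
  have hRz : R z (QuotientGroup.mk' O ⟨z, hVH hzE⟩) := ⟨hVH hzE, hzS, rfl⟩
  intro hcomp
  obtain ⟨KK, n, ho⟩ := CompCrit.exists_out h1169 h1171 hbend
    (Cfsg.Agent.Lib.Cores.pPrimeCore_quotient_pPrimeCore 2) PY
    (V := ((E2 co).subgroupOf H).map (QuotientGroup.mk' O)) hV' (z0 := QuotientGroup.mk' O ⟨z, hVH hzE⟩)
    (by
      rintro _ ⟨x, hx, rfl⟩ _ ⟨y, hy, rfl⟩
      exact hqc x.2 y.2 (cm_eq_one.1 (cm_F0_F0 (E2_le_F0 hx) (E2_le_F0 hy))))
    (by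
      rintro _ ⟨x, hx, rfl⟩
      rw [← map_mul]
      have : x * x = 1 := Subtype.ext (sq_F0 (E2_le_F0 hx))
      rw [this, map_one])
    ⟨⟨z, hVH hzE⟩, hzE, rfl⟩
    (by
      intro h
      exact hz1 (congrArg Subtype.val (hinj ⟨z, hVH hzE⟩ (hmemP.2 hzS) h)))
    (by
      -- `Z ≠ V`
      obtain ⟨v, hv, hvc⟩ := exists_cx (co := co) ⟨0, 1, 0, 0, 0, 0⟩
      have hvE : v ∈ E2 co := ⟨hv, by rw [hvc], by rw [hvc], by rw [hvc], by rw [hvc]⟩
      intro h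
      obtain ⟨k, hk⟩ := mem_zpowers_iff.1 (h ⟨⟨v, hVH hvE⟩, hvE, rfl⟩)
      rw [← map_zpow] at hk
      have h1 := hinj2 _ (zpow_mem (hmemP.2 hzS) k) _ (hmemP.2 hv) hk
      have h2 : z ^ k = v := congrArg Subtype.val h1
      have h3 : v ∈ Z co := by rw [← h2]; exact zpow_mem hzZ k
      have h4 := h3.2.2.1
      rw [hvc] at h4
      exact one_ne_zero h4)
    (by
      rintro _ ⟨a, ha, rfl⟩ ha1 _ ⟨b, hb, rfl⟩ hb1
      obtain ⟨n, hn, hnw, hnab⟩ := exists_trans o2 hw hwV ha (hne1 ha1) hb (hne1 hb1)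
      have hnH : n ∈ H := mem_centralizer_singleton_iff.2 hnw
      refine ⟨QuotientGroup.mk' O ⟨n, hnH⟩, ?_⟩
      rw [← map_inv, ← map_mul, ← map_mul]
      congr 1
      exact Subtype.ext hnab)
    (by
      rintro Kb hKb _ ⟨a, ha, rfl⟩ ha1
      have ha' : (a : G) ∈ E2 co := ha
      by_contra hcon
      push Not at hcon
      exact NoCompCent.false_of_central hww (sq_F0 (E2_le_F0 ha')) (mem_centralizer_singleton_iff.1 a.2)
        (not_hasComponent_E2 o2 oZ ha' (hne1 ha1)) hKb hcon)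
    hcomp
  exact CenUConf.false_of_cor hR hwS hwc hV hV'.1 ho hD hk0 hzS hzc hRz

end Cfsg.Agent.HexTwoGlob.CenUTwo
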