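import Cfsg.Agent.HexTwoGlob.CenUTwo
import Cfsg.Agent.HexGlob.CharTwo
import Cfsg.Agent.HexTwo.Fus

/-!
# `G` is of characteristic 2 type; the centralisers of involutions, `q = 2` (piece P8, first half)
-/

set_option autoImplicit false

namespace Cfsg.Agent.HexTwoGlob.CharTwo

open Cfsg.Agent.HexRec Cfsg.Agent.HexEss Subgroup Cfsg.Agent.Lib.GoldschmidtFusion
open Cfsg.Agent.HexGlob Cfsg.Agent.HexGlob.CenUSpec Cfsg.Agent.HexTwo.Facts
open Cfsg.Agent.HexGlob.CenU (exists_Z_ne_one)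
open Cfsg.Agent.HexGlob.CharTwo
open Cfsg.Agent.TypeL3 (H1169 H1171 H1296)
open Cfsg.Agent.HexGlob.MinPlus (HBend)

universe u v

variable {F K : Type v} [Field F] [Field K] [Algebra F K] {C : Cubic F K}
variable {G : Type u} [Group G] [Finite G] {S : Sylow 2 G} {co : Coord C (S : Subgroup G)}

theorem Dat2.toT (hD : Dat2 C) : DatT C := ⟨hD.reg, hD.deg⟩

theorem card_F0_eq (hD : Dat2 C) (co : Coord C (S : Subgroup G)) : Nat.card (F0 co) = 32 := by
  rw [card_F0, hD.card, hD.card_K]; norm_num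

theorem four_lt_card_F0 (hD : Dat2 C) (co : Coord C (S : Subgroup G)) : 4 < Nat.card (F0 co) := by
  rw [card_F0_eq hD]; norm_num

theorem cx_x3 (co : Coord C (S : Subgroup G)) (k : K) :
    cx co ((co.x3 k : (S : Subgroup G)) : G) = ⟨0, 0, k, 0, 0, 0⟩ := by
  rw [cx_eq (SetLike.coe_mem _)]
  exact co.e.apply_symm_apply _

/-- `G` is of characteristic 2 type -/
theorem characteristicTwoType (h1169 : H1169.{u}) (h1171 : H1171.{u}) (h1296 : H1296.{u}) (hbend : HBend.{u})
    [IsSimpleGroup G] (hD : Dat2 C) (o1 : Out1 S co) (o2 : Out2 S co) (oZ : OutZ S co) (oI : OutInv S co)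
    (oF : OutFus S co) : Cfsg.IsCharacteristicTwoType G := by
  have hcard := four_lt_card_F0 hD co
  have hle : Nat.card (F0 co) ≤ Nat.card G := Nat.card_le_card_of_injective _ (F0 co).subtype_injective
  obtain ⟨z, hz, hz1⟩ := exists_Z_ne_one co
  have hz2 : z * z = 1 := sq_F0 (E2_le_F0 (Z_le_E2 hz))
  have heven : Even (Nat.card G) := by
    have h1 := orderOf_dvd_natCard z
    rw [Cfsg.Agent.TypeL3.orderOf_eq_two_of_sq hz2 hz1] at h1
    exact (even_iff_two_dvd).2 h1
  have hS : (S : Subgroup G) ≠ ⊥ := by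
    intro h0
    have h1 := hz.1
    rw [h0, mem_bot] at h1
    exact hz1 h1
  have hidx : ∀ N : Subgroup G, N.Normal → N.index ≠ 2 := by
    intro N hN hind
    rcases hN.eq_bot_or_eq_top with h2 | h2
    · rw [h2, Subgroup.index_bot] at hind
      omega
    · rw [h2, Subgroup.index_top] at hind
      omega
  rcases h1296 G heven hidx (Cfsg.Agent.TypeL3.oddCore_eq_bot_of_simple S hS) with h1 | h1 | h1
  · exfalso
    have hc : IsMulCommutative (F0 co) := ⟨⟨fun x y => Subtype.ext (cm_eq_one.1 (cm_F0_F0 x.2 y.2))⟩⟩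
    have := h1 (F0 co) hc (fun a ha => by rw [pow_two]; exact sq_F0 ha)
    omega
  · exfalso
    obtain ⟨t, ht, hcomp⟩ := h1
    have ht2 : t * t = 1 := by rw [← pow_two, ← ht]; exact pow_orderOf_eq_one t
    have ht1 : t ≠ 1 := by
      rintro rfl
      rw [orderOf_one] at ht
      omega
    have hzp : IsPGroup 2 (zpowers t) := by
      rw [IsPGroup.iff_card]
      exact ⟨1, by rw [Nat.card_zpowers, ht, pow_one]⟩
    obtain ⟨g, -, hle⟩ := exists_conj_le_in (p := 2) (N := ⊤) S.isPGroup'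
      (Cfsg.Agent.TypeL3.sylow_not_dvd_relIndex S le_top) (le_top : zpowers t ≤ ⊤) hzp
    have hg : g * t * g⁻¹ ∈ (S : Subgroup G) := hle ⟨t, mem_zpowers t, by simp⟩
    have hg2 : g * t * g⁻¹ * (g * t * g⁻¹) = 1 := by
      calc g * t * g⁻¹ * (g * t * g⁻¹) = g * (t * t) * g⁻¹ := by group
        _ = 1 := by rw [ht2]; group
    have hg1 : g * t * g⁻¹ ≠ 1 := by
      intro h
      apply ht1
      have := congrArg (fun t => g⁻¹ * t * g) h
      simpa [mul_assoc] using this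
    obtain ⟨m, -, hm⟩ := oI.conj _ hg hg2 hg1
    have e : (m * g) * t * (m * g)⁻¹ = m * (g * t * g⁻¹) * m⁻¹ := by group
    have hne : m * (g * t * g⁻¹) * m⁻¹ ≠ 1 := by
      intro h
      apply hg1
      have := congrArg (fun t => m⁻¹ * t * m) h
      simpa [mul_assoc] using this
    rcases hm with hm | ⟨k, hk, hm⟩
    · exact oZ.nocomp _ hm hne (hasComponent_conj e hcomp)
    · exact CenUTwo.not_hasComponent h1169 h1171 hbend hD o1 o2 oZ oF hk (SetLike.coe_mem _) (cx_x3 co k)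
        (oF.syl k hk) (hasComponent_conj (e.trans hm) hcomp)
  · exact h1

section

variable (hc2 : Cfsg.IsCharacteristicTwoType G) (oZ : OutZ S co) (o2 : Out2 S co)

include hc2 oZ o2

/-- `C_G(w) ≤ N_G(Db)` for `w ∈ W ∖ V` -/
theorem cw (hT : DatT C) (o1 : Out1 S co) (oF : OutFus S co) {w : G} (hw : w ∈ F0 co) (hwV : w ∉ E2 co)
    (hP : ∃ P : Sylow 2 (centralizer ({w} : Set G)), (P : Subgroup (centralizer ({w} : Set G))) =
      (S : Subgroup G).subgroupOf (centralizer ({w} : Set G))) :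
    centralizer ({w} : Set G) ≤ normalizer ((Db co : Subgroup G) : Set G) := by
  refine le_trans ?_ (nV hc2 oZ o2)
  have hw2 : w * w = 1 := sq_F0 hw
  have hw1 : w ≠ 1 := by
    rintro rfl
    exact hwV (one_mem _)
  have hwZ : w ∉ Z co := fun h => hwV (Z_le_E2 h)
  have hchar := char_centralizer hc2 hw2 hw1
  obtain ⟨P, hP⟩ := hP
  have hcl : Cfsg.IsStronglyClosed ((E2 co).subgroupOf (centralizer ({w} : Set G)))
      (P : Subgroup (centralizer ({w} : Set G))) := by
    refine ⟨fun x hx => ?_, fun x hx g hg => ?_⟩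
    · rw [hP, mem_subgroupOf]
      exact E2_le (mem_subgroupOf.1 hx)
    · rw [hP, mem_subgroupOf] at hg
      rw [mem_subgroupOf] at hx ⊢
      exact CenUFus.conj_mem_E2 hT o1 o2 oZ oF hw hwZ hx (mem_centralizer_singleton_iff.1 g.2) hg
  have h1 := Cfsg.Agent.TypeL3.le_pCore_of_closed P hcl
    (fun x hx y hy => Subtype.ext (cm_eq_one.1 (cm_F0_F0 (E2_le_F0 hx) (E2_le_F0 hy))))
    (fun x hx => Subtype.ext (sq_F0 (E2_le_F0 hx))) hchar
  have hn : (Cfsg.pCore 2 (centralizer ({w} : Set G))).Normal := Lib.Cores.pCore_normal 2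
  have hle : Cfsg.pCore 2 (centralizer ({w} : Set G)) ≤ (P : Subgroup (centralizer ({w} : Set G))) :=
    Lib.Cores.pCore_le_sylow P
  apply le_normalizer_of
  intro c hc v hv
  have hvH : v ∈ centralizer ({w} : Set G) := mem_centralizer_singleton_iff.2
    (cm_eq_one.1 (cm_F0_F0 (E2_le_F0 hv) hw))
  have h2 : (⟨v, hvH⟩ : centralizer ({w} : Set G)) ∈ (E2 co).subgroupOf (centralizer ({w} : Set G)) := hv
  exact hcl.2 _ h2 ⟨c, hc⟩ (hle (hn.conj_mem _ (h1 h2) ⟨c, hc⟩))

end

/-! ### The output -/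

theorem out (h1169 : H1169.{u}) (h1171 : H1171.{u}) (h1296 : H1296.{u}) (hbend : HBend.{u}) [IsSimpleGroup G]
    (hD : Dat2 C) (o1 : Out1 S co) (o2 : Out2 S co) (oZ : OutZ S co) : Out S co := by
  have hT := Dat2.toT hD
  have hE : HEss.{u, v} C := hD.hEss
  have oF := Cfsg.Agent.HexTwo.Fus.outFus hT hE o1
  have oI := Cfsg.Agent.HexTwo.Fus.outInv' hT hE o1 o2
  have hc2 := characteristicTwoType h1169 h1171 h1296 hbend hD o1 o2 oZ oI oF
  have hcw : ∀ w ∈ F0 co, w ∉ E2 co → centralizer ({w} : Set G) ≤ normalizer ((Db co : Subgroup G) : Set G) :=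
    fun w hw hwV => cw hc2 oZ o2 hT o1 oF hw hwV (Cfsg.Agent.HexTwo.Fus.exists_sylow' hT hE o1 hw hwV)
  exact
    { cen :=
        { cz := fun z hz hz1 => cz hc2 oZ hz hz1
          cu := fun k hk => hcw _ (Invol.x3_mem k) (Invol.x3_notMem hk)
          cDa := cDa hc2 oZ
          cDb := cDb hc2 oZ }
      two := hc2
      nV := nV hc2 oZ o2
      cw := hcw }

theorem outCen (h1169 : H1169.{u}) (h1171 : H1171.{u}) (h1296 : H1296.{u}) (hbend : HBend.{u}) [IsSimpleGroup G]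
    (hD : Dat2 C) (o1 : Out1 S co) (o2 : Out2 S co) (oZ : OutZ S co) : OutCen S co :=
  (out h1169 h1171 h1296 hbend hD o1 o2 oZ).cen

end Cfsg.Agent.HexTwoGlob.CharTwo
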