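import Cfsg.Agent.HexGlob.CompFour
import Cfsg.Agent.Lib.EssentialFusion

/-!
# A component whose Sylow 2-subgroup centralises `V` (piece P7)

`X` finite, `O(X) = 1`, `P` a Sylow 2-subgroup, `V ≤ P` elementary abelian and strongly closed in `P`, all
nontrivial elements of `V` conjugate, none of them centralises a component. If `X` has a component `K`, then
`K` is unique, contains `V`, `P ∩ K` centralises `V` and some `n ∈ K` normalises `V`, moves a given
nontrivial element of `V` and normalises `C_P(V)`, acting trivially modulo `P ∩ K`.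
-/

set_option autoImplicit false

namespace Cfsg.Agent.HexTwoGlob.CompCrit

open Subgroup Cfsg.Agent.Lib.GoldschmidtFusion Cfsg.Agent.TypeL3 Cfsg.Agent.HexGlob.MinPlus
open Cfsg.Agent.HexGlob.CompTools
open Cfsg.Agent.SignalizersComponents.CompBasic Cfsg.Agent.SignalizersComponents.Components
open Cfsg.Agent.Lib.EssentialFusion (not_dvd_relIndex_of_le)
open scoped commutatorElement

universe u

variable {X : Type u} [Group X]

/-- the component `K` and the element `n` -/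
structure Out (P V K : Subgroup X) (z n : X) : Prop where
  comp : Cfsg.IsComponent K
  conj : ∀ g k : X, k ∈ K → g * k * g⁻¹ ∈ K
  V_le : V ≤ K
  V_inf : ∀ v ∈ V, v ∈ centralizer (K : Set X) → v = 1
  comm : ∀ v ∈ V, ∀ s ∈ P ⊓ K, s * v = v * s
  sq : ∀ t ∈ P ⊓ K, t * t ∈ centralizer (K : Set X) →
    ∃ q ∈ V, ∃ c ∈ K ⊓ centralizer (K : Set X), t = q * c
  cen_le : K ⊓ centralizer (K : Set X) ≤ P
  n_mem : n ∈ K
  n_V : n ∈ normalizer (V : Set X)
  n_z : n * z * n⁻¹ ≠ z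
  n_B : ∀ b ∈ P, (∀ v ∈ V, b * v = v * b) → n * b * n⁻¹ ∈ P ∧ n * b * n⁻¹ * b⁻¹ ∈ P ⊓ K
  n_B' : ∀ b ∈ P, (∀ v ∈ V, b * v = v * b) → n⁻¹ * b * n ∈ P

variable [Finite X]

theorem exists_out (h1169 : H1169.{u}) (h1171 : H1171.{u}) (hbend : HBend.{u}) (hcore : Cfsg.oddCore X = ⊥)
    (P : Sylow 2 X) {V : Subgroup X} (hV : Cfsg.IsStronglyClosed V (P : Subgroup X))
    (hVc : ∀ x ∈ V, ∀ y ∈ V, x * y = y * x) (hV2 : ∀ x ∈ V, x * x = 1)
    {z0 : X} (hz0V : z0 ∈ V) (hz01 : z0 ≠ 1) (hZ1 : ¬ V ≤ zpowers z0)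
    (htr : ∀ a ∈ V, a ≠ 1 → ∀ b ∈ V, b ≠ 1 → ∃ n : X, n * a * n⁻¹ = b)
    (hna : ∀ K : Subgroup X, Cfsg.IsComponent K → ∀ a ∈ V, a ≠ 1 → ∃ k ∈ K, a * k ≠ k * a)
    (hcomp : Cfsg.HasComponent X) : ∃ K n, Out (P : Subgroup X) V K z0 n := by
  obtain ⟨K, hK⟩ := hcomp
  set Z := zpowers z0 with hZdef
  have hz0 : z0 ∈ Z := mem_zpowers z0
  have hZV : Z ≤ V := by rw [hZdef, zpowers_le]; exact hz0V
  have ctx : ∀ {K : Subgroup X}, Cfsg.IsComponent K → Ctx K := fun h => ⟨hcore, h⟩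
  have hK : Cfsg.IsComponent K := hK
  -- steps 1, 2
  have s2 : ∀ {K : Subgroup X}, Cfsg.IsComponent K → ∃ v ∈ V ⊓ K, v ∉ centralizer (K : Set X) := by
    intro K hK
    by_contra h0
    push Not at h0
    have h1 := (ctx hK).comm_of_inf_le h1171 P hV ((ctx hK).normalises_of_comm P hV hVc) h0
    obtain ⟨k, hk, hne⟩ := hna K hK z0 (hZV hz0) hz01
    exact hne (h1 z0 (hZV hz0) k hk)
  -- step 3
  have s3 : ∀ v ∈ V, v ≠ 1 → ∃ L : Subgroup X, Cfsg.IsComponent L ∧ v ∈ L ∧ v ∉ centralizer (L : Set X) := by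
    intro v hv hv1
    obtain ⟨w, hw, hwC⟩ := s2 hK
    obtain ⟨hwV, hwK⟩ := mem_inf.1 hw
    have hw1 : w ≠ 1 := fun h => hwC (h ▸ one_mem _)
    obtain ⟨n, hn⟩ := htr w hwV hw1 v hv hv1
    refine ⟨K.map (MulAut.conj n).toMonoidHom, isComponent_conj n hK, ?_, ?_⟩
    · rw [← hn]; exact conj_mem_map_conj hwK n
    · intro h1
      apply hwC
      rw [mem_centralizer_map_conj, ← hn] at h1
      have e : n⁻¹ * (n * w * n⁻¹) * n = w := by group
      rwa [e] at h1
  have comm_of_ne : ∀ {K L : Subgroup X}, Cfsg.IsComponent K → Cfsg.IsComponent L → K ≠ L → ∀ {v : X},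
      v ∈ L → v ∈ centralizer (K : Set X) := by
    intro K L hK hL hne v hv
    exact component_le_centralizer_of_ne hL hK hne.symm hv
  -- step 4
  have s4 : ∀ {K L : Subgroup X}, Cfsg.IsComponent K → Cfsg.IsComponent L → K = L := by
    intro K L hK hL
    by_contra hne
    obtain ⟨v, hv, hvC⟩ := s2 hK
    obtain ⟨v', hv', hvC'⟩ := s2 hL
    obtain ⟨hvV, hvK⟩ := mem_inf.1 hv
    obtain ⟨hvV', hvL'⟩ := mem_inf.1 hv'
    have hw1 : v * v' ≠ 1 := by
      intro h0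
      apply hvC
      have : v = v'⁻¹ := eq_inv_of_mul_eq_one_left h0
      rw [this]
      exact comm_of_ne hK hL hne (inv_mem hvL')
    obtain ⟨M, hM, hwM, hwC⟩ := s3 (v * v') (mul_mem hvV hvV') hw1
    by_cases hMK : K = M
    · -- `M ≠ L`
      have hML : L ≠ M := fun h => hne (hMK.trans h.symm)
      have h1 := comm_of_ne hL hM hML hwM
      have h2 := comm_of_ne hL hK (Ne.symm hne) hvK
      apply hvC'
      have h3 := mul_mem (inv_mem h2) h1
      rwa [inv_mul_cancel_left] at h3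
    · have h1 := comm_of_ne hK hM hMK hwM
      have h2 := comm_of_ne hK hL hne hvL'
      apply hvC
      have h3 := mul_mem h1 (inv_mem h2)
      rwa [mul_inv_cancel_right] at h3
  -- step 5
  have hconj : ∀ g : X, K.map (MulAut.conj g).toMonoidHom = K := fun g => s4 (isComponent_conj g hK) hK
  have hconj' : ∀ g k : X, k ∈ K → g * k * g⁻¹ ∈ K := fun g k hk => by
    have := conj_mem_map_conj hk g
    rwa [hconj g] at this
  have hVK : V ≤ K := by
    intro v hv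
    by_cases hv1 : v = 1
    · rw [hv1]; exact one_mem _
    obtain ⟨L, hL, hvL, -⟩ := s3 v hv hv1
    rw [s4 hK hL]; exact hvL
  have hVC : ∀ v ∈ V, v ∈ centralizer (K : Set X) → v = 1 := by
    intro v hv hvC
    by_contra hv1
    obtain ⟨L, hL, -, hvL⟩ := s3 v hv hv1
    rw [s4 hK hL] at hvC
    exact hvL hvC
  set S := (P : Subgroup X) ⊓ K with hS
  have hVS : V ≤ S := le_inf hV.1 hVK
  obtain ⟨R, hR⟩ := (ctx hK).exists_sylow P
  -- step 6
  have s6 : ∀ v ∈ V, ∀ s ∈ S, s * v = v * s := by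
    intro v hv s hs
    have h1 := ((ctx hK).min_plus h1169 h1171 hbend P (A := V) (inf_le_left.trans hV.1)
      (fun x hx g _ hg => hV.2 x (mem_inf.1 hx).1 g hg)
      (fun x hx y hy => by
        rw [hVc x (mem_inf.1 hx).1 y (mem_inf.1 hy).1]
        have : y * x * x⁻¹ * y⁻¹ = 1 := by group
        rw [this]; exact one_mem _)
      (fun x hx => by rw [hV2 x (mem_inf.1 hx).1]; exact one_mem _)
      (fun h0 => by
        obtain ⟨w, hw, hwC⟩ := s2 hK
        exact hwC (h0 hw)) (t := v) (hVS hv) (by rw [hV2 v hv]; exact one_mem _)).2 s hs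
    have h2 : s * v * s⁻¹ ∈ V := by
      apply hV.2 v hv
      have hsP := (mem_inf.1 hs).1
      exact mul_mem (mul_mem hsP (hV.1 hv)) (inv_mem hsP)
    have h3 := hVC _ (mul_mem h2 (inv_mem hv)) h1
    rw [mul_inv_eq_one, mul_inv_eq_iff_eq_mul] at h3
    exact h3
  have hPV : ∀ {g : X}, g ∈ (P : Subgroup X) → g ∈ normalizer (V : Set X) := by
    intro g hg
    rw [mem_normalizer_iff_map_conj]
    apply Subgroup.eq_of_le_of_card_ge _ (by rw [card_map_conj])
    rintro _ ⟨v, hv, rfl⟩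
    exact hV.2 v hv g (mul_mem (mul_mem hg (hV.1 hv)) (inv_mem hg))
  obtain ⟨h, hh, hhZ⟩ : ∃ h ∈ normalizer (S : Set X) ⊓ K, h ∉ normalizer (Z : Set X) := by
    by_contra hcon
    push Not at hcon
    have s8 : normalizer (S : Set X) ⊓ K ≤ normalizer (Z : Set X) := hcon
    apply hZ1
    -- step 9
    have hcR : ∀ v : X, (hv : v ∈ V) → (⟨v, hVK hv⟩ : K) ∈ centralizer ((R : Subgroup K) : Set K) := by
      intro v hv
      rw [mem_centralizer_iff]
      intro s hs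
      have hsP : (s : X) ∈ (P : Subgroup X) := by
        have hs' : s ∈ (P : Subgroup X).subgroupOf K := hR ▸ hs
        rwa [mem_subgroupOf] at hs'
      exact Subtype.ext (s6 v hv s (mem_inf.2 ⟨hsP, s.2⟩))
    have s9 : ∀ z ∈ Z ⊓ K, ∀ g ∈ K, g * z * g⁻¹ ∈ (P : Subgroup X) → g * z * g⁻¹ ∈ Z := by
      intro z hz g hg hgz
      have hzV := hZV (mem_inf.1 hz).1
      have h1 := hV.2 z hzV g hgz
      obtain ⟨n, hn, e⟩ := R.conj_eq_normalizer_conj_of_mem_centralizer ⟨z, hVK hzV⟩ ⟨g⁻¹, inv_mem hg⟩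
        (hcR z hzV) (by
          have h2 := hcR _ h1
          have e2 : (⟨g⁻¹, inv_mem hg⟩ : K)⁻¹ * ⟨z, hVK hzV⟩ * (⟨g⁻¹, inv_mem hg⟩ : K) =
              ⟨g * z * g⁻¹, hVK h1⟩ := by
            apply Subtype.ext
            show g⁻¹⁻¹ * z * g⁻¹ = g * z * g⁻¹
            rw [inv_inv]
          rw [e2]
          exact h2)
      have e' : g⁻¹⁻¹ * z * g⁻¹ = (n : X)⁻¹ * z * n := congrArg Subtype.val e
      rw [inv_inv] at e'
      have hnN : (n : X) ∈ normalizer (S : Set X) := by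
        have h3 := coe_mem_normalizer_map.2 hn
        rwa [hR, subgroupOf_map_subtype] at h3
      have h4 := conj_mem_of_mem_normalizer (inv_mem (s8 (mem_inf.2 ⟨hnN, n.2⟩))) (mem_inf.1 hz).1
      rw [inv_inv] at h4
      rw [e']
      exact h4
    -- step 10
    intro v hv
    obtain ⟨q, hq, c, hc, e⟩ := ((ctx hK).min_plus h1169 h1171 hbend P (A := Z)
      (inf_le_left.trans (hZV.trans hV.1)) s9
      (fun x hx y hy => by
        rw [hVc x (hZV (mem_inf.1 hx).1) y (hZV (mem_inf.1 hy).1)]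
        have : y * x * x⁻¹ * y⁻¹ = 1 := by group
        rw [this]; exact one_mem _)
      (fun x hx => by rw [hV2 x (hZV (mem_inf.1 hx).1)]; exact one_mem _)
      (fun h0 => hz01 (hVC z0 (hZV hz0) (h0 (mem_inf.2 ⟨hz0, hVK (hZV hz0)⟩))))
      (t := v) (hVS hv) (by rw [hV2 v hv]; exact one_mem _)).1
    have hcV : c ∈ V := by
      have h1 : c = q⁻¹ * v := by rw [e]; group
      rw [h1]
      exact mul_mem (inv_mem (hZV (mem_inf.1 hq).1)) hv
    have hc1 := hVC c hcV (mem_inf.1 hc).2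
    rw [e, hc1, mul_one]
    exact (mem_inf.1 hq).1
  obtain ⟨hhS, hhK⟩ := mem_inf.1 hh
  have hhV : h ∈ normalizer (V : Set X) := by
    rw [mem_normalizer_iff_map_conj]
    apply Subgroup.eq_of_le_of_card_ge _ (by rw [card_map_conj])
    rintro _ ⟨v, hv, rfl⟩
    exact hV.2 v hv h (mem_inf.1 (conj_mem_of_mem_normalizer hhS (hVS hv))).1
  have hhz : h * z0 * h⁻¹ ≠ z0 := by
    intro e
    apply hhZ
    apply centralizer_le_normalizer
    rw [mem_centralizer_iff]
    intro z hz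
    obtain ⟨k, rfl⟩ := mem_zpowers_iff.1 hz
    have e1 : Commute h z0 := mul_inv_eq_iff_eq_mul.1 e
    exact (e1.zpow_right k).symm
  -- Frattini
  set B : Subgroup X := centralizer (V : Set X) ⊓ (P : Subgroup X) with hB
  have hBodd : ¬ 2 ∣ B.relIndex (centralizer (V : Set X)) := by
    apply not_dvd_relIndex_centralizer P
    have e1 : (P : Subgroup X) ⊓ normalizer (V : Set X) = P := inf_eq_left.2 fun g hg => hPV hg
    rw [e1]
    exact sylow_not_dvd_relIndex P fun g hg => hPV hg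
  have hKn : K.Normal := ⟨fun k hk g => hconj' g k hk⟩
  set R' : Subgroup X := (B ⊔ K) ⊓ centralizer (V : Set X) with hR'
  have hBR : B ≤ R' := le_inf le_sup_left inf_le_left
  have hodd : ¬ 2 ∣ B.relIndex R' := not_dvd_relIndex_of_le hBR inf_le_right hBodd
  have hB2 : IsPGroup 2 B := P.isPGroup'.to_le inf_le_right
  have hBh : B.map (MulAut.conj h).toMonoidHom ≤ R' := by
    rintro _ ⟨b, hb, rfl⟩
    obtain ⟨hbC, hbP⟩ := mem_inf.1 hb
    show h * b * h⁻¹ ∈ R'
    refine mem_inf.2 ⟨?_, ?_⟩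
    · have e : h * b * h⁻¹ = b * (b⁻¹ * h * b⁻¹⁻¹ * h⁻¹) := by group
      rw [e]
      exact mul_mem (mem_sup_left hb) (mem_sup_right (mul_mem (hconj' b⁻¹ h hhK) (inv_mem hhK)))
    · rw [mem_centralizer_iff] at hbC ⊢
      intro v hv
      have h1 : h⁻¹ * v * h ∈ V := by
        have := conj_mem_of_mem_normalizer (inv_mem hhV) hv
        rwa [inv_inv] at this
      have h2 := hbC _ h1
      calc v * (h * b * h⁻¹) = h * (h⁻¹ * v * h * b) * h⁻¹ := by group
        _ = h * b * h⁻¹ * v := by rw [h2]; group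
  obtain ⟨r, hr, hrB⟩ := exists_conj_le_in (p := 2) hB2 hodd hBh (hB2.map _)
  obtain ⟨hrBK, hrC⟩ := mem_inf.1 hr
  obtain ⟨b', hb', c, hc, e⟩ := Subgroup.mem_sup_of_normal_right.1 hrBK
  have hcC : c ∈ centralizer (V : Set X) := by
    have e1 : c = b'⁻¹ * r := by rw [← e]; group
    rw [e1]
    exact mul_mem (inv_mem (mem_inf.1 hb').1) hrC
  have hnB : ∀ b ∈ B, c * h * b * (c * h)⁻¹ ∈ B := by
    intro b hb
    have h1 : r * (h * b * h⁻¹) * r⁻¹ ∈ B := hrB ⟨_, ⟨b, hb, rfl⟩, rfl⟩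
    have h2 := mul_mem (mul_mem (inv_mem hb') h1) hb'
    have e1 : b'⁻¹ * (r * (h * b * h⁻¹) * r⁻¹) * b' = c * h * b * (c * h)⁻¹ := by
      rw [← e]; group
    rwa [e1] at h2
  have hnN : c * h ∈ normalizer (B : Set X) := by
    rw [mem_normalizer_iff_map_conj]
    apply Subgroup.eq_of_le_of_card_ge _ (by rw [card_map_conj])
    rintro _ ⟨b, hb, rfl⟩
    exact hnB b hb
  have hnK : c * h ∈ K := mul_mem hc hhK
  have hmemB : ∀ {b : X}, b ∈ (P : Subgroup X) → (∀ v ∈ V, b * v = v * b) → b ∈ B := by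
    intro b hb hbV
    exact mem_inf.2 ⟨mem_centralizer_iff.2 fun v hv => (hbV v hv).symm, hb⟩
  refine ⟨K, c * h, hK, hconj', hVK, hVC, s6, ?_, (ctx hK).center_le P, hnK, ?_, ?_, ?_, ?_⟩
  · -- squares
    intro t ht ht2
    obtain ⟨q, hq, c, hc, e⟩ := ((ctx hK).min_plus h1169 h1171 hbend P (A := V) (inf_le_left.trans hV.1)
      (fun x hx g _ hg => hV.2 x (mem_inf.1 hx).1 g hg)
      (fun x hx y hy => by
        rw [hVc x (mem_inf.1 hx).1 y (mem_inf.1 hy).1]
        have : y * x * x⁻¹ * y⁻¹ = 1 := by group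
        rw [this]; exact one_mem _)
      (fun x hx => by rw [hV2 x (mem_inf.1 hx).1]; exact one_mem _)
      (fun h0 => by
        obtain ⟨w, hw, hwC⟩ := s2 hK
        exact hwC (h0 hw)) (t := t) ht ht2).1
    exact ⟨q, (mem_inf.1 hq).1, c, hc, e⟩
  · exact mul_mem (centralizer_le_normalizer _ hcC) hhV
  · intro e1
    have h1 : h * z0 * h⁻¹ ∈ V := conj_mem_of_mem_normalizer hhV hz0V
    have h2 := (mem_centralizer_iff.1 hcC) _ h1
    have h3 : c * h * z0 * (c * h)⁻¹ = h * z0 * h⁻¹ := by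
      calc c * h * z0 * (c * h)⁻¹ = (c * (h * z0 * h⁻¹)) * c⁻¹ := by group
        _ = h * z0 * h⁻¹ := by rw [← h2]; group
    exact hhz (h3.symm.trans e1)
  · intro b hb hbV
    have h1 := mem_inf.1 (hnB b (hmemB hb hbV))
    refine ⟨h1.2, mem_inf.2 ⟨mul_mem h1.2 (inv_mem hb), ?_⟩⟩
    have e1 : c * h * b * (c * h)⁻¹ * b⁻¹ = c * h * (b * (c * h)⁻¹ * b⁻¹) := by group
    rw [e1]
    exact mul_mem hnK (hconj' b _ (inv_mem hnK))
  · intro b hb hbV
    have h1 := conj_mem_of_mem_normalizer (inv_mem hnN) (hmemB hb hbV)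
    rw [inv_inv] at h1
    exact (mem_inf.1 h1).2

end Cfsg.Agent.HexTwoGlob.CompCrit
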