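import Cfsg.Agent.HexTwoGlob.Spec
import Cfsg.Agent.HexGlob.OneSpec

/-!
# Arithmetic of the cubic data for `|F| = 2`, `|K| = 8`
-/

set_option autoImplicit false

namespace Cfsg.Agent.HexTwoGlob.Fields

open Cfsg.Agent.HexRec Cfsg.Agent.HexEss

universe v

variable {F K : Type v} [Field F] [Field K] [Algebra F K] {C : Cubic F K} (hD : Dat2 C)

include hD

theorem N_eq {t : K} (ht : t ≠ 0) : C.N t = 1 :=
  (hD.eq_zero_or_one _).resolve_left (C.N_ne_zero ht)

theorem T_self_sh {t : K} (ht : t ≠ 0) : C.T t (C.sh t) = 1 := by rw [C.T_self_sh, N_eq hD ht]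

theorem T_sh_self {t : K} (ht : t ≠ 0) : C.T (C.sh t) t = 1 := by rw [C.T_sh_self, N_eq hD ht]

theorem smul_cases (f : F) (k : K) : f • k = 0 ∨ f • k = k := by
  rcases hD.eq_zero_or_one f with rfl | rfl
  · left; rw [zero_smul]
  · right; rw [one_smul]

theorem eq_one_of_ne {f : F} (h : f ≠ 0) : f = 1 := (hD.eq_zero_or_one f).resolve_left h

theorem add_ne_zero {t s : K} (h : t ≠ s) : t + s ≠ 0 := fun h1 => h (C.eq_of_add_eq_zeroK h1)

/-- `T(s, t^#) + T(s^#, t) = 1` for `t ≠ s` nonzero -/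
theorem T_sh_add {t s : K} (ht : t ≠ 0) (hs : s ≠ 0) (hts : t ≠ s) :
    C.T (C.sh t) s + C.T t (C.sh s) = 1 := by
  have h := C.N_add' t s
  rw [N_eq hD (add_ne_zero hD hts), N_eq hD ht, N_eq hD hs] at h
  have h2 := C.char2 1
  linear_combination -h - h2

theorem cr_ne_zero {t s : K} (ht : t ≠ 0) (hs : s ≠ 0) (hts : t ≠ s) : C.cr t s ≠ 0 := by
  intro h
  obtain ⟨f, hf⟩ := exists_smul_of_cr_eq_zero hD.reg ht h
  rcases smul_cases hD f t with h1 | h1
  · exact hs (hf.trans h1)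
  · exact hts (hf.trans h1).symm

/-- the functionals `T(t, ·)`, `T(s, ·)` are independent -/
theorem exists_T_T {t s : K} (ht : t ≠ 0) (hs : s ≠ 0) (hts : t ≠ s) (x y : F) :
    ∃ k, C.T t k = x ∧ C.T s k = y := by
  obtain ⟨p, hp⟩ := C.exists_T_eq ht 1
  obtain ⟨q, hq⟩ := C.exists_T_eq hs 1
  obtain ⟨r, hr⟩ := C.exists_T_eq (add_ne_zero hD hts) 1
  rw [C.T_add_left] at hr
  have hF := hD.eq_zero_or_one
  have h2 := C.char2 1
  -- `(1,0)` is attained
  have h10 : ∃ k, C.T t k = 1 ∧ C.T s k = 0 := by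
    rcases hF (C.T s p) with h1 | h1
    · exact ⟨p, hp, h1⟩
    rcases hF (C.T t q) with h3 | h3
    · exact ⟨p + q, by rw [C.T_add_right, hp, h3, add_zero], by rw [C.T_add_right, h1, hq, h2]⟩
    rcases hF (C.T t r) with h4 | h4
    · rw [h4, zero_add] at hr
      exact ⟨p + r, by rw [C.T_add_right, hp, h4, add_zero], by rw [C.T_add_right, h1, hr, h2]⟩
    · refine ⟨r, h4, ?_⟩
      rw [h4] at hr
      linear_combination hr
  have h01 : ∃ k, C.T t k = 0 ∧ C.T s k = 1 := by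
    obtain ⟨k, hk1, hk2⟩ := h10
    rcases hF (C.T t q) with h3 | h3
    · exact ⟨q, h3, hq⟩
    · exact ⟨k + q, by rw [C.T_add_right, hk1, h3, h2], by rw [C.T_add_right, hk2, hq, zero_add]⟩
  obtain ⟨a, ha1, ha2⟩ := h10
  obtain ⟨b, hb1, hb2⟩ := h01
  refine ⟨x • a + y • b, ?_, ?_⟩
  · rw [C.T_add_right, C.T_smul_right, C.T_smul_right, ha1, hb1]; ring
  · rw [C.T_add_right, C.T_smul_right, C.T_smul_right, ha2, hb2]; ring

/-- `{t, s}^⊥ = {0, t × s}` -/
theorem perp_eq {t s : K} (ht : t ≠ 0) (hs : s ≠ 0) (hts : t ≠ s) {k : K} (h1 : C.T t k = 0) (h2 : C.T s k = 0) :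
    k = 0 ∨ k = C.cr t s := by
  classical
  have hfinK := hD.finite_K
  have hfinF := hD.finite_F
  let φ : K →+ F × F :=
    { toFun := fun k => (C.T t k, C.T s k)
      map_zero' := by rw [C.T_zero_right, C.T_zero_right]; rfl
      map_add' := fun a b => by rw [C.T_add_right, C.T_add_right]; rfl }
  have hφ : Function.Surjective φ := by
    rintro ⟨x, y⟩
    obtain ⟨k, hk1, hk2⟩ := exists_T_T hD ht hs hts x y
    exact ⟨k, Prod.ext hk1 hk2⟩
  have h3 : Nat.card φ.ker = 2 := by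
    have h4 := AddSubgroup.card_eq_card_quotient_mul_card_addSubgroup φ.ker
    rw [Nat.card_congr (QuotientAddGroup.quotientKerEquivOfSurjective φ hφ).toEquiv, hD.card_K,
      Nat.card_prod, hD.card] at h4
    omega
  by_contra hcon
  push Not at hcon
  have hc := cr_ne_zero hD ht hs hts
  have m0 : (0 : K) ∈ φ.ker := zero_mem _
  have m1 : k ∈ φ.ker := Prod.ext h1 h2
  have m2 : C.cr t s ∈ φ.ker := Prod.ext (T_cr_self_left t s) (T_cr_self_right t s)
  have := Fintype.ofFinite φ.ker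
  have h5 : ({⟨0, m0⟩, ⟨k, m1⟩, ⟨C.cr t s, m2⟩} : Finset φ.ker).card = 3 := by
    rw [Finset.card_insert_of_notMem, Finset.card_insert_of_notMem, Finset.card_singleton]
    · simpa [Subtype.ext_iff] using hcon.2
    · simp only [Finset.mem_insert, Finset.mem_singleton, not_or, Subtype.mk.injEq]
      exact ⟨fun h => hcon.1 h.symm, fun h => hc h.symm⟩
  have h6 := Finset.card_le_univ ({⟨0, m0⟩, ⟨k, m1⟩, ⟨C.cr t s, m2⟩} : Finset φ.ker)
  rw [Nat.card_eq_fintype_card] at h3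
  omega

/-- `k^⊥ = {0, a, b, a + b}` with `a × b = k` -/
theorem exists_perp {k : K} (hk : k ≠ 0) : ∃ a b : K, a ≠ 0 ∧ b ≠ 0 ∧ a ≠ b ∧ C.T a k = 0 ∧ C.T b k = 0 ∧
    C.cr a b = k ∧ ∀ t, C.T t k = 0 → t = 0 ∨ t = a ∨ t = b ∨ t = a + b := by
  classical
  -- some nonzero element orthogonal to `k`
  have h1 : ∃ a, a ≠ 0 ∧ C.T a k = 0 := by
    by_contra hcon
    push Not at hcon
    have hfinK := hD.finite_K
    have h2 : Function.Injective fun a => C.T a k := by
      intro a b hab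
      by_contra hne
      refine hcon (a + b) (add_ne_zero hD hne) ?_
      have hab' : C.T a k = C.T b k := hab
      rw [C.T_add_left, hab', C.char2]
    have hfinF := hD.finite_F
    have h3 := Nat.card_le_card_of_injective _ h2
    rw [hD.card_K, hD.card] at h3
    omega
  obtain ⟨a, ha, hak⟩ := h1
  obtain ⟨b, hb⟩ := exists_cr_eq hD.reg ha hak
  have hb0 : b ≠ 0 := fun h => hk (by rw [← hb, h, C.cr_zero_right])
  have hab : a ≠ b := fun h => hk (by rw [← hb, h, C.cr_self])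
  have hbk : C.T b k = 0 := by rw [← hb, T_cr_self_right]
  refine ⟨a, b, ha, hb0, hab, hak, hbk, hb, fun t ht => ?_⟩
  by_cases ht0 : t = 0
  · exact Or.inl ht0
  by_cases hta : t = a
  · exact Or.inr (Or.inl hta)
  have h3 : C.cr t a ≠ 0 := cr_ne_zero hD ht0 ha hta
  have h4 : C.cr t a = k := by
    rcases perp_eq hD ht0 ha hta ht hak with h5 | h5
    · exact absurd h5 hk
    · exact h5.symm
  have h5 : C.cr a (t + b) = 0 := by
    rw [C.cr_add_right, hb, C.cr_comm, h4, C.add_selfK]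
  obtain ⟨f, hf⟩ := exists_smul_of_cr_eq_zero hD.reg ha h5
  rcases smul_cases hD f a with h6 | h6
  · right; right; left
    exact C.eq_of_add_eq_zeroK (hf.trans h6)
  · right; right; right
    have h7 : t + b = a := hf.trans h6
    rw [← h7, add_assoc, C.add_selfK, add_zero]

end Cfsg.Agent.HexTwoGlob.Fields
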