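import Cfsg.Agent.HexTwoGlob.Spec
import Cfsg.Agent.HexRec.Model
import Cfsg.Agent.HexRec.OfPair
import Cfsg.Agent.HexRec.FixedField
import Cfsg.Agent.Hexagon.TwD4Par
import Cfsg.Agent.S1067
import Cfsg.Agent.S1071

/-!
# Coordinates on the Sylow 2-subgroups of `³D₄(2)`

As in `HexRec.Instances` (helper641), `r = 1`.
-/

set_option autoImplicit false

namespace Cfsg.Agent.HexTwoGlob.InstTwo

open Cfsg.Agent.Hex.Defs Cfsg.Agent.HexRec Cfsg.Agent.HexTwoGlob

/-- `Reg` for the cubic data of a pair -/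
theorem reg {F K : Type*} [Field F] [Field K] [Algebra F K] {φ : K ≃ₐ[F] K} (h : CubicPair φ) :
    Cfsg.Agent.HexEss.Reg (OfPair.cubic h) := by
  intro b
  rw [OfPair.cubic_cr, OfPair.cubic_tr, algebraMap_tr h]
  unfold cr
  rw [map_one, map_one, one_mul]
  linear_combination (-b) * h.two

theorem card_le_of_pow {K : Type*} [Field K] [Fintype K] {q : ℕ} (hq : 1 < q) (h : ∀ t : K, t ^ q = t) :
    Fintype.card K ≤ q := by
  classical
  have hne := FiniteField.X_pow_card_sub_X_ne_zero K hq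
  rw [← Finset.card_univ, ← FiniteField.X_pow_card_sub_X_natDegree_eq K hq]
  refine (Finset.card_le_card (t := (Polynomial.X ^ q - Polynomial.X : Polynomial K).roots.toFinset) ?_).trans
    ((Multiset.toFinset_card_le _).trans (Polynomial.card_roots' _))
  intro t _
  rw [Multiset.mem_toFinset, Polynomial.mem_roots hne]
  simp [Polynomial.IsRoot.def, h t]

/-- **Model side of `³D₄(2)`: coordinates.** -/
theorem instTwo (K : Type) [Field K] [Fintype K] (hK : Fintype.card K = 8) :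
    ∃ (F : Type) (_ : Field F) (_ : Algebra F K) (C : Cubic F K), Dat2 C ∧
      ∀ P : Sylow 2 ↥(Cfsg.Lie.twistedD4 K 2), Nonempty (Coord C (P : Subgroup ↥(Cfsg.Lie.twistedD4 K 2))) := by
  have hq : IsPrimePow 2 := Nat.prime_two.isPrimePow
  have hK3 : Fintype.card K = 2 ^ 3 := by rw [hK]; norm_num
  have h2 : (2 : K) = 0 := by
    have h1 : ((Fintype.card K : ℕ) : K) = 0 := Nat.cast_card_eq_zero K
    rw [hK3, Nat.cast_pow, Nat.cast_ofNat] at h1
    exact (pow_eq_zero_iff (by norm_num)).1 h1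
  obtain ⟨f, hf⟩ := Cfsg.Agent.ChevalleyStructure.D4Fixed.exists_frob hq hK3
  let σ : K ≃+* K := RingEquiv.ofBijective f (Finite.injective_iff_bijective.1 f.injective)
  have hσ : ∀ x, σ x = x ^ 2 := hf
  have h3 : ∀ t, σ (σ (σ t)) = t := by
    intro t
    rw [hσ, hσ, hσ, ← pow_mul, ← pow_mul]
    have : 2 * (2 * 2) = Fintype.card K := by rw [hK]
    rw [this]
    exact FiniteField.pow_card t
  have hne : ∃ t, σ t ≠ t := by
    by_contra hcon
    push Not at hcon
    have h4 := card_le_of_pow (q := 2) (by norm_num) fun t => (hσ t).symm.trans (hcon t)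
    omega
  have hfr := FixedField.finrank_eq σ h3 hne
  have hF : Nat.card (FixedField.Fx σ) = 2 := by
    have h4 : Nat.card K = Nat.card (FixedField.Fx σ) ^ 3 := by
      rw [← hfr]
      exact Module.natCard_eq_pow_finrank
    rw [Nat.card_eq_fintype_card, hK3] at h4
    exact (Nat.pow_left_injective (n := 3) (by norm_num) h4).symm
  obtain ⟨c, x1, x2, x3, x4, x5, x6, k, hgen, hU⟩ :=
    Cfsg.Agent.Hexagon.TwD4Par.exists_kside hq hK3 (σ := σ) hσ
  have hs : IsSimpleGroup ↥(Cfsg.Lie.twistedD4 K 2) := (Cfsg.Agent.S1071.result hq hK3).1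
  have k' : Cfsg.Agent.SplitTwo.HexPar ((FixedField.phi σ : K ≃ₐ[FixedField.Fx σ] K) : K ≃+* K) c.X x1 x2 x3 x4
      x5 x6 := k
  refine ⟨FixedField.Fx σ, inferInstance, inferInstance, OfPair.cubic (FixedField.cubicPair σ h2 h3),
    ⟨reg _, hF, hfr⟩, fun P => ?_⟩
  refine Model.exists_coord (FixedField.cubicPair σ h2 h3) c hgen hU k' P
    ⟨12, (2 ^ 2 - 1) * (2 ^ 6 - 1) * (2 ^ 8 + 2 ^ 4 + 1), ?_, ?_, by decide⟩
  · rw [hF, Nat.card_eq_fintype_card, hK3]
    norm_num
  · rw [Cfsg.Agent.S1067.result hq hK3]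
    norm_num

end Cfsg.Agent.HexTwoGlob.InstTwo
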