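import Cfsg.Agent.HexTwoGlob.OddTwo
import Cfsg.Agent.HexTwo.Facts
import Cfsg.Agent.HexGlob.CenZMain
import Cfsg.Agent.HexGlob.OddAct

/-!
# `OutZ` for `q = 2` (Sylow 2-subgroups of `³D₄(2)`)
-/

set_option autoImplicit false

namespace Cfsg.Agent.HexTwoGlob.OutZTwo

open Cfsg.Agent.HexRec Cfsg.Agent.HexEss Cfsg.Agent.HexEss.Abel Cfsg.Agent.HexGlob Subgroup
open Cfsg.Agent.HexGlob.OneSpec Cfsg.Agent.HexGlob.OneRep Cfsg.Agent.HexGlob.OddAct

universe u v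

variable {F K : Type v} [Field F] [Field K] [Algebra F K] {C : Cubic F K}

theorem datT (hD : Dat2 C) : HexTwo.Facts.DatT C := ⟨hD.reg, hD.deg⟩

theorem mild (hD : Dat2 C) : CenZ.Mild.{u} C := CenZ.mild_of_two hD.reg hD.card hD.deg

theorem fus (hD : Dat2 C) : CenZ.Fus.{u} C where
  gen := by
    intro X _ _ P co A hA g hg
    exact Cfsg.Agent.Lib.EssBridge.gen_of_conj P _ (Or.inl rfl)
      (fun _ hX => Or.inr (hD.hEss X P co _ hX)) hA hg
  nDa := by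
    intro X _ _ P co
    exact HexTwo.Facts.le_normalizer_Da_of_P (datT hD) le_rfl

/-- **the input of (iii)** -/
theorem allOdd (hD : Dat2 C) : CenZ.AllOdd.{u} C := by
  intro X _ _ P co L h Y N hY hZY hYZ hLY hLN hNY hNZ hodd n hn y hy
  have hYD : Y = Da co := h.f4 hD.deg Y hY hLY hYZ
  have hPH : (P : Subgroup X) ≤ HH co Y := by
    intro p hp
    refine mem_inf.2 ⟨hLY (h.P_le hp), ?_⟩
    rw [mem_centralizer_iff]
    intro z hz
    exact (h.cent p (h.P_le hp) z hz).symm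
  have hNH : N ≤ HH co Y := by
    intro x hx
    refine mem_inf.2 ⟨hNY hx, ?_⟩
    rw [mem_centralizer_iff]
    intro z hz
    exact (hNZ x hx z hz).symm
  have hYtriv : ∀ (g : X) (hg : g ∈ HH co Y), g ∈ Y → psi hY ⟨g, hg⟩ = 1 := by
    intro g hg hgY
    apply LinearEquiv.ext
    intro w
    apply Subtype.ext
    rw [psi_coe _ (rep_mem w) (wA_rep w)]
    show wA co (g * rep w * g⁻¹) = (w : MM F K)
    rw [← wA_rep w, conj_eq_cm_mul]
    have h1 := cm_mem_Z_of_Da (hY hgY) (hY (rep_mem w))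
    rw [wA_mul (Z_le_Da h1) (hY (rep_mem w)), (wA_eq_zero (Z_le_Da h1)).2 h1, zero_add]
  have htop : ∀ w : MM F K, w ∈ MY co Y hY := by
    intro w
    obtain ⟨x, hx, hxw⟩ := exists_wA (co := co) w
    exact ⟨x, by rw [hYD]; exact hx, hxw⟩
  -- the action as permutations of `MM F K`
  let e : MY co Y hY ≃ MM F K := Equiv.subtypeUnivEquiv htop
  let ρ : HH co Y →* Equiv.Perm (MM F K) :=
    { toFun := fun g => e.symm.trans ((psi hY g).toEquiv.trans e)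
      map_one' := by
        rw [map_one]; rfl
      map_mul' := fun g g' => by
        rw [map_mul]; rfl }
  have hρ : ∀ (g : HH co Y) (x : X), x ∈ Y → ρ g (wA co x) = wA co ((g : X) * x * (g : X)⁻¹) := by
    intro g x hx
    show ((psi hY g (e.symm (wA co x)) : MY co Y hY) : MM F K) = _
    exact psi_coe g hx rfl
  have hYtriv' : ∀ (g : X) (hg : g ∈ HH co Y), g ∈ Y → ρ ⟨g, hg⟩ = 1 := by
    intro g hg hgY
    show e.symm.trans ((psi hY ⟨g, hg⟩).toEquiv.trans e) = 1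
    rw [hYtriv g hg hgY]; rfl
  let Γ : Subgroup (Equiv.Perm (MM F K)) := (N.subgroupOf (HH co Y)).map ρ
  have hΓodd : Odd (Nat.card Γ) := by
    rw [← Nat.not_even_iff_odd, even_iff_two_dvd]
    intro hd
    have hΓfin : Finite Γ := by
      have : Finite (N.subgroupOf (HH co Y)) := inferInstance
      exact Finite.of_surjective (fun x : N.subgroupOf (HH co Y) => (⟨ρ x, x, x.2, rfl⟩ : Γ)) (by
        rintro ⟨_, x, hx, rfl⟩
        exact ⟨⟨x, hx⟩, rfl⟩)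
    obtain ⟨⟨_, x, hx, rfl⟩, hx2⟩ := exists_prime_orderOf_dvd_card' 2 hd
    rw [← Subgroup.orderOf_coe] at hx2
    obtain ⟨m, hm, hmY⟩ := hodd x (mem_subgroupOf.1 hx)
    have h1 : ρ x ^ m = 1 := by
      rw [← map_pow]
      exact hYtriv' _ (pow_mem x.2 m) hmY
    have h2 := orderOf_dvd_of_pow_eq_one h1
    have h3 : orderOf (ρ x) = 2 := hx2
    rw [h3] at h2
    exact (Nat.not_even_iff_odd.2 hm) (even_iff_two_dvd.2 h2)
  have key := OddTwo.eq_bot hD Γ hΓodd (by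
    rintro _ ⟨x, hx, rfl⟩ v w
    obtain ⟨v', hv', rfl⟩ := htop v
    obtain ⟨w', hw', rfl⟩ := htop w
    rw [hρ x v' hv', hρ x w' hw',
      ← cm_Da_eq (hY (HH_conj x.2 hv')) (hY (HH_conj x.2 hw')), ← conj_cm,
      HH_Z x.2 (cm_mem_Z_of_Da (hY hv') (hY hw')), cm_Da_eq (hY hv') (hY hw')]) (by
    rintro t _ ⟨x, hx, rfl⟩
    obtain ⟨p, hp, hpc⟩ := exists_cx (co := co) ⟨t, 0, 0, 0, 0, 0⟩
    have hAt : OddTwo.At C t = ρ ⟨p, hPH hp⟩ := by
      apply Equiv.ext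
      intro w
      obtain ⟨w', hw', rfl⟩ := htop w
      rw [hρ _ w' hw', OddTwo.At_apply]
      show _ = wA co (p * w' * p⁻¹)
      rw [wA_conj hp (hY hw'), hpc]
    rw [hAt, ← map_inv, ← map_mul, ← map_mul]
    refine ⟨(⟨p, hPH hp⟩ : HH co Y) * x * (⟨p, hPH hp⟩ : HH co Y)⁻¹, ?_, rfl⟩
    show (⟨p, hPH hp⟩ : HH co Y) * x * (⟨p, hPH hp⟩ : HH co Y)⁻¹ ∈ N.subgroupOf (HH co Y)
    rw [mem_subgroupOf]
    exact conj_mem_of_le hLN (h.P_le hp) (mem_subgroupOf.1 hx))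
  have h4 : ρ ⟨n, hNH hn⟩ = 1 := by
    have h5 : ρ ⟨n, hNH hn⟩ ∈ Γ := ⟨⟨n, hNH hn⟩, mem_subgroupOf.2 hn, rfl⟩
    rw [key] at h5
    exact h5
  have h5 : wA co (n * y * n⁻¹) = wA co y := by
    rw [← hρ ⟨n, hNH hn⟩ y hy, h4]; rfl
  have h6 := (wA_eq_iff (hY hy) (hY (HH_conj (hNH hn) hy))).1 h5.symm
  have h7 : cm n y = y * (y⁻¹ * (n * y * n⁻¹)) * y⁻¹ := by unfold cm; group
  rw [h7, HH_Z (hPH (hY hy).1) h6]
  exact h6

/-- the goal for `C_G(z) / O(C_G(z))` -/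
theorem goal (h1169 : TypeL3.H1169.{u}) (h1171 : TypeL3.H1171.{u}) (hbend : MinPlus.HBend.{u}) (hD : Dat2 C) :
    CenZ.Goal.{u} C := CenZ.goal h1169 h1171 hbend (mild hD) (allOdd hD)

/-- **`OutZ` for `q = 2`** -/
theorem outZ {G : Type u} [Group G] [Finite G] {S : Sylow 2 G} {co : Coord C (S : Subgroup G)}
    (h1169 : TypeL3.H1169.{u}) (h1171 : TypeL3.H1171.{u}) (hbend : MinPlus.HBend.{u}) (hD : Dat2 C)
    (h1 : Out1 S co) (h2 : Out2 S co) : OutZ S co :=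
  CenZ.outZ_of_goal (fus hD) (goal h1169 h1171 hbend hD) h1 h2.ti h2.inv

end Cfsg.Agent.HexTwoGlob.OutZTwo
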