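import Cfsg.Agent.HexTwoGlob.CharTwo
import Cfsg.Agent.HexTwoGlob.OutZTwo
import Cfsg.Agent.HexTwo.TwoGen
import Cfsg.Agent.HexTwo.PairOut

/-!
# Assembly: simple groups whose Sylow 2-subgroup is that of `³D₄(2)`

`exists_hyp`: such a group satisfies `TypeD4Two.NinePair.Hyp` (`Out1` is proved in `OutOne.lean`).
-/

set_option autoImplicit false

namespace Cfsg.Agent.HexTwoGlob.Main

open Cfsg.Agent.HexRec Cfsg.Agent.HexEss Subgroup
open Cfsg.Agent.HexGlob Cfsg.Agent.HexGlob.CenUSpec Cfsg.Agent.HexTwo.Facts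
open Cfsg.Agent.TypeL3 (H1169 H1171 H1296)
open Cfsg.Agent.HexGlob.MinPlus (HBend)

universe u v

variable {F K : Type v} [Field F] [Field K] [Algebra F K] {C : Cubic F K}
variable {G : Type u} [Group G] [Finite G] {S : Sylow 2 G}

theorem out2 (h1169 : H1169.{u}) [IsSimpleGroup G] (hT : DatT C) (h2 : Nat.card F = 2)
    (co : Coord C (S : Subgroup G)) : Out2 S co :=
  Cfsg.Agent.HexTwo.TwoGen.out2 h1169 hT h2 co

theorem out (h1169 : H1169.{u}) (h1171 : H1171.{u}) (h1296 : H1296.{u}) (hbend : HBend.{u}) [IsSimpleGroup G]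
    (hD : Dat2 C) (co : Coord C (S : Subgroup G)) (o1 : Out1 S co) : Cfsg.Agent.HexGlob.CharTwo.Out S co :=
  have hT : DatT C := ⟨hD.reg, hD.deg⟩
  have o2 := out2 h1169 hT hD.card co
  CharTwo.out h1169 h1171 h1296 hbend hD o1 o2 (OutZTwo.outZ h1169 h1171 hbend hD o1 o2)

/-- **the output** -/
theorem exists_hyp (h1169 : H1169.{u}) (h1171 : H1171.{u}) (h1296 : H1296.{u}) (hbend : HBend.{u})
    [IsSimpleGroup G] (hD : Dat2 C) (co : Coord C (S : Subgroup G)) (o1 : Out1 S co) :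
    ∃ (Q : Subgroup G) (z : G) (A : Subgroup G) (a : G), Cfsg.Agent.TypeD4Two.NinePair.Hyp Q z A a := by
  have hT : DatT C := ⟨hD.reg, hD.deg⟩
  have h := (out h1169 h1171 h1296 hbend hD co o1).cen
  obtain ⟨Q, z, A, a, h1, -, -⟩ := Cfsg.Agent.HexTwo.PairOut.hyp hT hD.card o1
    (out2 h1169 hT hD.card co) h.cz h.cDa
  exact ⟨Q, z, A, a, h1⟩

end Cfsg.Agent.HexTwoGlob.Main
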