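import Cfsg.Agent.HexTwo.OneBen
import Cfsg.Agent.HexGlob.RankOne

/-!
# `Out1` for `q = 2`
-/

set_option autoImplicit false

namespace Cfsg.Agent.HexTwoGlob.OutOne

open Cfsg.Agent.HexRec Cfsg.Agent.HexEss Subgroup
open Cfsg.Agent.HexGlob Cfsg.Agent.HexTwo.Facts
open Cfsg.Agent.HexGlob.OneBase
open Cfsg.Agent.TypeL3 (H1169)

universe u v

variable {F K : Type v} [Field F] [Field K] [Algebra F K] {C : Cubic F K}
variable {G : Type u} [Group G] [Finite G] {S : Sylow 2 G}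

theorem rankOne (h1169 : H1169.{u}) [IsSimpleGroup G] (hT : DatT C) (h2 : Nat.card F = 2)
    (co : Coord C (S : Subgroup G)) : RankOne.Hyp (T1 co) where
  sq := OneBase.sq co
  card4 := Cfsg.Agent.HexTwo.OneBase.card4 co hT h2
  core := Cfsg.Agent.HexTwo.OneBase.core co (Cfsg.Agent.HexTwo.Odd.hOddLin hT h2)
  gen := OneBase.gen co
  se := Cfsg.Agent.HexTwo.OneBase.se co hT (Cfsg.Agent.HexTwo.EssBoth.ess_Da h1169 hT co)

theorem rk (h1169 : H1169.{u}) [IsSimpleGroup G] (hT : DatT C) (h2 : Nat.card F = 2)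
    (co : Coord C (S : Subgroup G)) : Cfsg.Agent.HexTwo.OneBen.RK (T1 co) :=
  have h := rankOne h1169 hT h2 co
  { simple := h.simple
    trans := fun _ _ hg hk => h.trans hg hk
    reg := fun _ _ hg ht hgt => h.reg hg ht hgt
    trans_torus := fun _ _ _ hg hs hs1 ht ht1 => h.trans_torus hg hs hs1 ht ht1
    eq_top := fun _ hTM ⟨_, hx, hxN⟩ => h.eq_top hTM hx hxN }

theorem out1 (h1169 : H1169.{u}) [IsSimpleGroup G] (hT : DatT C) (h2 : Nat.card F = 2)
    (co : Coord C (S : Subgroup G)) : Out1 S co :=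
  Cfsg.Agent.HexTwo.OneBen.out1_of_rk co hT h2 (Cfsg.Agent.HexTwo.EssBoth.not_le_normalizer_E2 h1169 hT co)
    ((le_normalizer_Db_of_P hT le_rfl).trans (le_normalizer_F0_of_Db hT le_rfl)) (rk h1169 hT h2 co)

end Cfsg.Agent.HexTwoGlob.OutOne
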