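import Cfsg.Agent.HexGlob.Spec
import Cfsg.Agent.HexGlob.LevSpec
import Cfsg.Agent.HexGlob.CenUSpec
import Cfsg.Agent.HexGlob.Ess

/-!
# The case `F = 𝔽₂`, `[K : F] = 3` (Sylow 2-subgroups of `³D₄(2)`): common definitions

`Dat2 C`: the cubic data with `|F| = 2`, `K / F` of degree three.
-/

set_option autoImplicit false

namespace Cfsg.Agent.HexTwoGlob

open Cfsg.Agent.HexRec Cfsg.Agent.HexEss Cfsg.Agent.HexGlob Subgroup
open Cfsg.Agent.Lib.GoldschmidtFusion Cfsg.Agent.Lib.EssDefs

universe u v

/-- hypotheses on the cubic data: `|F| = 2`, `K / F` of degree three -/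
structure Dat2 {F K : Type v} [Field F] [Field K] [Algebra F K] (C : Cubic F K) : Prop where
  reg : Reg C
  card : Nat.card F = 2
  deg : Module.finrank F K = 3

variable {F K : Type v} [Field F] [Field K] [Algebra F K] {C : Cubic F K}

theorem Dat2.finite_F (h : Dat2 C) : Finite F := Nat.finite_of_card_ne_zero (by rw [h.card]; decide)

theorem Dat2.finite_K (h : Dat2 C) : Finite K := by
  have := h.finite_F
  have : Module.Finite F K := Module.finite_of_finrank_pos (by rw [h.deg]; norm_num)
  exact Module.finite_of_finite F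

theorem Dat2.card_K (h : Dat2 C) : Nat.card K = 8 := by
  have := h.finite_F
  have : Module.Finite F K := Module.finite_of_finrank_pos (by rw [h.deg]; norm_num)
  rw [Module.natCard_eq_pow_finrank (K := F) (V := K), h.deg, h.card]
  norm_num

/-- every element of `F` is `0` or `1` -/
theorem Dat2.eq_zero_or_one (h : Dat2 C) (f : F) : f = 0 ∨ f = 1 := by
  classical
  have := h.finite_F
  by_contra hcon
  push Not at hcon
  have h3 : ({0, 1, f} : Finset F).card = 3 := by
    rw [Finset.card_insert_of_notMem, Finset.card_insert_of_notMem, Finset.card_singleton]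
    · simpa using fun h => hcon.2 h.symm
    · simp only [Finset.mem_insert, Finset.mem_singleton, not_or]
      exact ⟨zero_ne_one, fun h => hcon.1 h.symm⟩
  have := Fintype.ofFinite F
  have h4 := Finset.card_le_univ ({0, 1, f} : Finset F)
  have h5 := h.card
  rw [Nat.card_eq_fintype_card] at h5
  omega

/-- **The essential subgroups** -/
theorem Dat2.hEss (h : Dat2 C) : HEss.{u} C := by
  intro X _ _ S co D hD
  obtain ⟨H, hH⟩ := hD
  have hF := h.finite_F
  have hK := h.finite_K
  have h2 : 2 < Nat.card K := by rw [h.card_K]; norm_num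
  have h1 : F0 co ≤ D := Step2.F0_le_X S.isPGroup' hH co
    (fun t s ht hts => exists_smul_of_cr_eq_zero h.reg ht hts) h2
  exact Step3.eq_Da_or_eq_Db hH h1 h.reg (Or.inr (by rw [h.card_K, h.card]; norm_num))

end Cfsg.Agent.HexTwoGlob
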