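import Cfsg.Agent.HexTwoGlob.Main
import Cfsg.Agent.HexTwoGlob.OutOne
import Cfsg.Agent.HexTwoGlob.InstTwo
import Cfsg.Agent.HexGlob.FinalS
import Cfsg.Agent.TrialityTwo.Main

/-!
# S1770 for `³D₄(2)`
-/

set_option autoImplicit false

namespace Cfsg.Agent.HexTwoGlob.TwoD4

open Cfsg.Agent.HexRec Cfsg.Agent.HexTwo.Facts Cfsg.Agent.HexGlob.FinalS
open Cfsg.Agent.TypeL3 (H1169 H1171 H1296)
open Cfsg.Agent.HexGlob.MinPlus (HBend)

universe u

theorem twoD4 (h1169 : H1169.{u}) (h1171 : H1171.{u}) (h1296 : H1296.{u}) (hbend : HBend.{u}) : TwoD4.{u} := by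
  intro K _ _ hK G _ _ _ S P hSP
  obtain ⟨F, _, _, C, hD, hc⟩ := InstTwo.instTwo K hK
  obtain ⟨co'⟩ := hc P
  obtain ⟨f⟩ := hSP
  let co : Coord C (S : Subgroup G) := Model.transport co' f
  have o1 := OutOne.out1 h1169 ⟨hD.reg, hD.deg⟩ hD.card co
  obtain ⟨Q, z, A, a, h⟩ := Main.exists_hyp h1169 h1171 h1296 hbend hD co o1
  exact Cfsg.Agent.TrialityTwo.Main.main h K hK

end Cfsg.Agent.HexTwoGlob.TwoD4
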