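import Cfsg.Agent.HexTwoGlob.TwoD4
import Cfsg.Agent.HexGlob.GlobFrame

/-!
# S1770 for `³D₄(2)`, no hypotheses
-/

set_option autoImplicit false

namespace Cfsg.Agent.HexTwoGlob.TwoUncond

open Cfsg.Agent.HexGlob Cfsg.Agent.HexGlob.FinalS

universe u

theorem twoD4 : TwoD4.{u} :=
  TwoD4.twoD4 GlobFrame.h1169 GlobFrame.h1171 GlobFrame.h1296 GlobFrame.hbend

end Cfsg.Agent.HexTwoGlob.TwoUncond
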